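import Groth.Agent.ResProp.EF.K128.Conerve
import Groth.Agent.ResProp.EF.Arch

/-!
# The fields `Y` and `gal` of the cover datum

`X : ActD A D R1` (the groupoid acts on `D`), `c : C ⟶ D` faithfully flat with `R1 = D ⊗_C D`.  `affY : AffOver A` with
`Y.D⟨0⟩ = D`, `Y.D⟨1⟩ = R1`, `Y.j⟨0⟩ = p`, `Y.j⟨1⟩ = g` DEFINITIONALLY, and `galY : Gal Y.D C`.
-/

set_option autoImplicit false

universe v u w

open CategoryTheory CategoryTheory.Limits Opposite

namespace Groth.Agent.ResProp.EF.K128.AffY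

open EF56 Nerve Conerve

section

variable {𝒦 : Type u} [Category.{v} 𝒦] [HasFiniteWidePushouts 𝒦] {C D R1 : 𝒦} {A : NFᵒᵖ ⥤ 𝒦} (c : C ⟶ D)
  (X : ActD A D R1) (hC : IsPushout c c X.σ X.τ)

variable (R1) in
/-- the objects: `D`, `R1`, then the powers -/
noncomputable def ob : ℕ → 𝒦
  | 0 => D
  | 1 => R1
  | (n + 2) => W c (n + 2)

/-- the comparison with the conerve -/
noncomputable def eo : ∀ n : ℕ, (coNF c).obj (op ⟨n⟩) ≅ ob R1 c n
  | 0 => haveI := isIso_inj0 c; (asIso (inj c ⟨0⟩ 0)).symm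
  | 1 => haveI := X.isIso_u c hC; (asIso (X.u c hC)).symm
  | (_ + 2) => Iso.refl _

/-- the conerve with `D` and `R1` in degrees `0`, `1` -/
noncomputable def fn : NFᵒᵖ ⥤ 𝒦 where
  obj a := ob R1 c a.unop.n
  map {a b} φ := (eo c X hC a.unop.n).inv ≫ (coNF c).map φ ≫ (eo c X hC b.unop.n).hom
  map_id a := by
    rw [(coNF c).map_id]
    exact (congrArg (fun t => (eo c X hC a.unop.n).inv ≫ t) (Category.id_comp _)).trans (Iso.inv_hom_id _)
  map_comp {a b d} φ ψ := by
    rw [(coNF c).map_comp, Category.assoc, Category.assoc, Category.assoc]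
    congr 2
    exact ((Iso.hom_inv_id_assoc (eo c X hC b.unop.n) _).symm)

theorem fn_map {a b : NF} (φ : a ⟶ b) :
    (coNF c).map φ.op ≫ (eo c X hC a.n).hom = (eo c X hC b.n).hom ≫ (fn c X hC).map φ.op :=
  (Iso.hom_inv_id_assoc (eo c X hC b.n) _).symm

/-- degree `(0) → (1)`, first vertex -/
theorem fn_pr : (fn c X hC).map (pr ⟨0⟩).op = X.σ := by
  have i0 := isIso_inj0 c
  have i1 := X.isIso_u c hC
  change inj c ⟨0⟩ 0 ≫ (coNF c).map (pr ⟨0⟩).op ≫ inv (X.u c hC) = X.σ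
  rw [← Category.assoc, IsIso.comp_inv_eq, X.σ_u]
  exact inj_map c (pr ⟨0⟩) 0

/-- degree `(0) → (1)`, second vertex -/
theorem fn_lst : (fn c X hC).map (lst ⟨0⟩).op = X.τ := by
  have i0 := isIso_inj0 c
  have i1 := X.isIso_u c hC
  change inj c ⟨0⟩ 0 ≫ (coNF c).map (lst ⟨0⟩).op ≫ inv (X.u c hC) = X.τ
  rw [← Category.assoc, IsIso.comp_inv_eq, X.τ_u]
  exact inj_map c (lst ⟨0⟩) 0

variable (hA : Seg A)

/-- the map on objects -/
noncomputable def ap : ∀ n : ℕ, A.obj (op ⟨n⟩) ⟶ ob R1 c n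
  | 0 => X.p
  | 1 => X.g
  | (n + 2) => (X.exists_nat c hA hC).choose.app (op ⟨n + 2⟩)

theorem ap_eq : ∀ n : ℕ, ap c X hC hA n = (X.exists_nat c hA hC).choose.app (op ⟨n⟩) ≫ (eo c X hC n).hom
  | 0 => by
    have i0 := isIso_inj0 c
    rw [(X.exists_nat c hA hC).choose_spec.1]
    change X.p = (X.p ≫ inj c ⟨0⟩ 0) ≫ inv (inj c ⟨0⟩ 0)
    rw [Category.assoc, IsIso.hom_inv_id, Category.comp_id]
  | 1 => by
    have i1 := X.isIso_u c hC
    rw [(X.exists_nat c hA hC).choose_spec.2.1]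
    change X.g = (X.g ≫ X.u c hC) ≫ inv (X.u c hC)
    rw [Category.assoc, IsIso.hom_inv_id, Category.comp_id]
  | (n + 2) => (Category.comp_id _).symm

/-- the map of groupoid rings -/
noncomputable def nt : A ⟶ fn c X hC where
  app a := ap c X hC hA a.unop.n
  naturality a b φ := by
    have h := (X.exists_nat c hA hC).choose.naturality φ
    have h2 := fn_map c X hC φ.unop
    rw [ap_eq, ap_eq]
    exact (Category.assoc (A.map φ) ((X.exists_nat c hA hC).choose.app b) (eo c X hC b.unop.n).hom).symm.trans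
      ((congrArg (fun t => t ≫ (eo c X hC b.unop.n).hom) h).trans
        ((Category.assoc ((X.exists_nat c hA hC).choose.app a) ((coNF c).map φ) (eo c X hC b.unop.n).hom).trans
          ((congrArg (fun t => (X.exists_nat c hA hC).choose.app a ≫ t) h2).trans
            (Category.assoc ((X.exists_nat c hA hC).choose.app a) (eo c X hC a.unop.n).hom
              ((fn c X hC).map φ)).symm)))

theorem nt_sq {a b : NF} (φ : a ⟶ b) : Sq (nt c X hC hA) φ := by
  have h := (X.exists_nat c hA hC).choose_spec.2.2 φ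
  have s : IsPushout ((coNF c).map φ.op) (eo c X hC b.n).hom (eo c X hC a.n).hom ((fn c X hC).map φ.op) :=
    IsPushout.of_vert_isIso ⟨fn_map c X hC φ⟩
  have h2 := IsPushout.paste_vert h s
  have e1 : (nt c X hC hA).app (op b) = (X.exists_nat c hA hC).choose.app (op b) ≫ (eo c X hC b.n).hom :=
    ap_eq c X hC hA b.n
  have e2 : (nt c X hC hA).app (op a) = (X.exists_nat c hA hC).choose.app (op a) ≫ (eo c X hC a.n).hom :=
    ap_eq c X hC hA a.n
  rw [Sq, e1, e2]
  exact h2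

end

section Ring

open K784.BC K784.PM K741.RP Arch

variable {C D R1 : CommRingCat.{w}} {A : NFᵒᵖ ⥤ CommRingCat.{w}} (c : C ⟶ D) (X : ActD A D R1)
  (hC : IsPushout c c X.σ X.τ) (hA : GR A)

/-- **the field `Y`** -/
noncomputable def affY : AffOver A where
  D := fn c X hC
  j := nt c X hC (seg_of_GR hA)
  cart φ := nt_sq c X hC (seg_of_GR hA) φ

example : (affY c X hC hA).D.obj (op ⟨0⟩) = D := rfl
example : (affY c X hC hA).D.obj (op ⟨1⟩) = R1 := rfl
example : (affY c X hC hA).j.app (op ⟨0⟩) = X.p := rfl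
example : (affY c X hC hA).j.app (op ⟨1⟩) = X.g := rfl

theorem rg_pr : rg (affY c X hC hA).D (pr ⟨0⟩) = X.σ.hom := congrArg CommRingCat.Hom.hom (fn_pr c X hC)

theorem rg_lst : rg (affY c X hC hA).D (lst ⟨0⟩) = X.τ.hom := congrArg CommRingCat.Hom.hom (fn_lst c X hC)

/-- **the field `gal`** -/
noncomputable def galY (hc : c.hom.FaithfullyFlat) : K477.Gal (affY c X hC hA).D C where
  φ := c.hom
  ff := hc
  po := by
    rw [rg_pr, rg_lst]
    exact hC

end Ring

end Groth.Agent.ResProp.EF.K128.AffY
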