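import Groth.Agent.ResProp.EF.K128.Nerve

/-!
# The conerve of `c : C ⟶ D` and maps from a groupoid ring into it

`coNF c : NFᵒᵖ ⥤ 𝒦`, `⟨n⟩ ↦ D ⊗_C ⋯ ⊗_C D` (`n + 1` factors); it satisfies `Seg`, and `GR` if `c` is a faithfully flat ring map.
`ActD` : a groupoid `A` acts on `D` (`R1 = D ⊗ Γ`, `σ τ : D ⟶ R1`); if `R1 = D ⊗_C D` then there is a cartesian natural
transformation `A ⟶ coNF c` (`ActD.exists_nat`).
-/

set_option autoImplicit false

universe v u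

open CategoryTheory CategoryTheory.Limits Opposite

namespace Groth.Agent.ResProp.EF.K128.Conerve

open EF56 Nerve

section

variable {𝒦 : Type u} [Category.{v} 𝒦] [HasFiniteWidePushouts 𝒦] {C D : 𝒦} (c : C ⟶ D)

/-- the fibre coproduct power -/
noncomputable def W (n : ℕ) : 𝒦 := widePushout C (fun _ : Fin (n + 1) => D) (fun _ => c)

/-- the injections -/
noncomputable def W.i (n : ℕ) (k : Fin (n + 1)) : D ⟶ W c n :=
  WidePushout.ι (fun _ : Fin (n + 1) => c) k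

theorem W.w (n : ℕ) (k l : Fin (n + 1)) : c ≫ W.i c n k = c ≫ W.i c n l :=
  (WidePushout.arrow_ι (fun _ : Fin (n + 1) => c) k).trans (WidePushout.arrow_ι (fun _ : Fin (n + 1) => c) l).symm

variable {c} in
/-- the universal map -/
noncomputable def W.desc {n : ℕ} {T : 𝒦} (f : Fin (n + 1) → (D ⟶ T)) (h : ∀ k l, c ≫ f k = c ≫ f l) : W c n ⟶ T :=
  WidePushout.desc (c ≫ f 0) f (fun k => h k 0)

variable {c} in
theorem W.i_desc {n : ℕ} {T : 𝒦} (f : Fin (n + 1) → (D ⟶ T)) (h : ∀ k l, c ≫ f k = c ≫ f l) (k : Fin (n + 1)) :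
    W.i c n k ≫ W.desc f h = f k :=
  WidePushout.ι_desc (fun _ : Fin (n + 1) => c) (c ≫ f 0) f (fun k => h k 0) k

variable {c} in
theorem W.hom_ext {n : ℕ} {T : 𝒦} {f g : W c n ⟶ T} (h : ∀ k, W.i c n k ≫ f = W.i c n k ≫ g) : f = g := by
  refine WidePushout.hom_ext (fun _ : Fin (n + 1) => c) f g h ?_
  have e : c ≫ W.i c n 0 = WidePushout.head (fun _ : Fin (n + 1) => c) :=
    WidePushout.arrow_ι (fun _ : Fin (n + 1) => c) 0
  have h1 : (c ≫ W.i c n 0) ≫ f = (c ≫ W.i c n 0) ≫ g := by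
    rw [Category.assoc, Category.assoc, h 0]
  exact (congrArg (fun t : C ⟶ W c n => t ≫ f) e.symm).trans (h1.trans (congrArg (fun t : C ⟶ W c n => t ≫ g) e))

/-- the functoriality of the powers -/
noncomputable def W.map {n m : ℕ} (φ : Fin (n + 1) → Fin (m + 1)) : W c n ⟶ W c m :=
  W.desc (fun k => W.i c m (φ k)) (fun _ _ => W.w c _ _ _)

theorem W.i_wmap {n m : ℕ} (φ : Fin (n + 1) → Fin (m + 1)) (k : Fin (n + 1)) :
    W.i c n k ≫ W.map c φ = W.i c m (φ k) := W.i_desc _ _ k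

/-- **the conerve** of `c` -/
noncomputable def coNF : NFᵒᵖ ⥤ 𝒦 where
  obj a := W c a.unop.n
  map {a b} φ := W.map c (show Fin (a.unop.n + 1) → Fin (b.unop.n + 1) from φ.unop)
  map_id a := W.hom_ext fun k => by
    rw [W.i_wmap, Category.comp_id]
    rfl
  map_comp φ ψ := W.hom_ext fun k => by
    rw [W.i_wmap, ← Category.assoc, W.i_wmap, W.i_wmap]
    rfl

/-- the injections into the conerve -/
noncomputable def inj (a : NF) (k : Fin (a.n + 1)) : D ⟶ (coNF c).obj (op a) := W.i c a.n k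

variable {c} in
/-- maps out of the conerve -/
noncomputable def dsc {a : NF} {T : 𝒦} (f : Fin (a.n + 1) → (D ⟶ T)) (h : ∀ k l, c ≫ f k = c ≫ f l) :
    (coNF c).obj (op a) ⟶ T := W.desc (n := a.n) f h

variable {c} in
@[reassoc]
theorem inj_dsc {a : NF} {T : 𝒦} (f : Fin (a.n + 1) → (D ⟶ T)) (h : ∀ k l, c ≫ f k = c ≫ f l) (k : Fin (a.n + 1)) :
    inj c a k ≫ dsc f h = f k := W.i_desc (n := a.n) f h k

variable {c} in
theorem ext {a : NF} {T : 𝒦} {f g : (coNF c).obj (op a) ⟶ T} (h : ∀ k, inj c a k ≫ f = inj c a k ≫ g) : f = g :=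
  W.hom_ext (n := a.n) (f := f) (g := g) h

@[reassoc]
theorem inj_w (a : NF) (k l : Fin (a.n + 1)) : c ≫ inj c a k = c ≫ inj c a l := W.w c a.n k l

@[reassoc]
theorem inj_map {a b : NF} (φ : a ⟶ b) (k : Fin (b.n + 1)) :
    inj c b k ≫ (coNF c).map φ.op = inj c a ((show Fin (b.n + 1) → Fin (a.n + 1) from φ) k) :=
  W.i_wmap c (show Fin (b.n + 1) → Fin (a.n + 1) from φ) k

@[reassoc]
theorem inj_pr (a : NF) (k : Fin (a.n + 1)) :
    inj c a k ≫ (coNF c).map (pr a).op = inj c ⟨a.n + 1⟩ k.castSucc := inj_map c (pr a) k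

@[reassoc]
theorem inj_wmap_castSucc {a b : NF} (φ : a ⟶ b) (k : Fin (b.n + 1)) :
    inj c ⟨b.n + 1⟩ k.castSucc ≫ (coNF c).map (wmap φ).op =
      inj c ⟨a.n + 1⟩ ((show Fin (b.n + 1) → Fin (a.n + 1) from φ) k).castSucc := by
  rw [inj_map]
  congr 1
  exact Fin.lastCases_castSucc (motive := fun _ => Fin (a.n + 2)) _

@[reassoc]
theorem inj_wmap_last {a b : NF} (φ : a ⟶ b) :
    inj c ⟨b.n + 1⟩ (Fin.last (b.n + 1)) ≫ (coNF c).map (wmap φ).op = inj c ⟨a.n + 1⟩ (Fin.last (a.n + 1)) := by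
  rw [inj_map]
  congr 1
  exact Fin.lastCases_last (motive := fun _ => Fin (a.n + 2))

/-- all `wmap` squares of the conerve are pushouts -/
theorem seg_coNF : Seg (coNF c) := by
  intro a b φ
  have e : (coNF c).map φ.op ≫ (coNF c).map (pr a).op = (coNF c).map (pr b).op ≫ (coNF c).map (wmap φ).op := by
    rw [← (coNF c).map_comp, ← (coNF c).map_comp, ← op_comp, ← op_comp, wmap_pr]
  -- the family defining the map out of `E⟨a + 1⟩`
  let F : ∀ s : PushoutCocone ((coNF c).map φ.op) ((coNF c).map (pr b).op), Fin (a.n + 2) → (D ⟶ s.pt) := fun s =>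
    Fin.lastCases (motive := fun _ => (D ⟶ s.pt)) (inj c ⟨b.n + 1⟩ (Fin.last (b.n + 1)) ≫ s.inr)
      (fun k => inj c a k ≫ s.inl)
  have F1 : ∀ s, F s (Fin.last (a.n + 1)) = inj c ⟨b.n + 1⟩ (Fin.last (b.n + 1)) ≫ s.inr := fun s =>
    Fin.lastCases_last (motive := fun _ => (D ⟶ s.pt))
  have F2 : ∀ s k, F s (Fin.castSucc k) = inj c a k ≫ s.inl := fun s k =>
    Fin.lastCases_castSucc (motive := fun _ => (D ⟶ s.pt)) k
  have hc : ∀ (s : PushoutCocone ((coNF c).map φ.op) ((coNF c).map (pr b).op)) (k : Fin (b.n + 1)), inj c a ((show Fin (b.n + 1) → Fin (a.n + 1) from φ) k) ≫ s.inl =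
      inj c ⟨b.n + 1⟩ (Fin.castSucc k) ≫ s.inr := by
    intro s k
    have h1 : inj c b k ≫ (coNF c).map φ.op ≫ s.inl = inj c b k ≫ (coNF c).map (pr b).op ≫ s.inr := by
      rw [s.condition]
    rw [inj_map_assoc, inj_pr_assoc] at h1
    exact h1
  have key : ∀ s (x : Fin (a.n + 2)), c ≫ F s x = c ≫ inj c ⟨b.n + 1⟩ (Fin.last (b.n + 1)) ≫ s.inr := by
    intro s x
    refine Fin.lastCases ?_ (fun k => ?_) x
    · rw [F1]
    · rw [F2, inj_w_assoc c a k ((show Fin (b.n + 1) → Fin (a.n + 1) from φ) 0), hc,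
        inj_w_assoc c ⟨b.n + 1⟩ _ (Fin.last (b.n + 1))]
  refine ⟨⟨e⟩, ⟨PushoutCocone.IsColimit.mk _ (fun s => dsc (a := ⟨a.n + 1⟩) (F s) (fun k l => by rw [key, key]))
    (fun s => ?_) (fun s => ?_) (fun s m h1 h2 => ?_)⟩⟩
  · refine ext fun k => ?_
    rw [inj_pr_assoc, inj_dsc]
    exact F2 s k
  · refine ext fun k => ?_
    refine Fin.lastCases ?_ (fun k => ?_) k
    · rw [inj_wmap_last_assoc, inj_dsc, F1]
    · rw [inj_wmap_castSucc_assoc, inj_dsc, F2, hc]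
  · refine ext fun x => ?_
    rw [inj_dsc]
    refine Fin.lastCases ?_ (fun k => ?_) x
    · rw [F1, ← h2, inj_wmap_last_assoc]
    · rw [F2, ← h1, inj_pr_assoc]

/-- degree `0` is `D` -/
theorem isIso_inj0 : IsIso (inj c ⟨0⟩ 0) := by
  refine ⟨dsc (a := ⟨0⟩) (fun _ => 𝟙 D) (fun _ _ => rfl), inj_dsc _ _ _, ?_⟩
  refine ext fun k => ?_
  have hk : k = 0 := Subsingleton.elim (α := Fin 1) _ _
  subst hk
  rw [inj_dsc_assoc, Category.id_comp, Category.comp_id]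

/-- degree `1` is `D ⊗_C D` -/
theorem isPushout_inj1 : IsPushout c c (inj c ⟨1⟩ 0) (inj c ⟨1⟩ 1) := by
  let F : ∀ s : PushoutCocone c c, Fin 2 → (D ⟶ s.pt) := fun s => ![s.inl, s.inr]
  have hF : ∀ (s : PushoutCocone c c) (k l : Fin 2), c ≫ F s k = c ≫ F s l := by
    intro s k l
    have h := s.condition
    fin_cases k <;> fin_cases l
    · rfl
    · exact h
    · exact h.symm
    · rfl
  refine ⟨⟨inj_w c ⟨1⟩ 0 1⟩, ⟨PushoutCocone.IsColimit.mk _ (fun s => dsc (a := ⟨1⟩) (F s) (hF s))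
    (fun s => inj_dsc _ _ _) (fun s => inj_dsc _ _ _) (fun s m h1 h2 => ext fun k => ?_)⟩⟩
  rw [inj_dsc]
  change Fin 2 at k
  fin_cases k
  · exact h1
  · exact h2

/-- `E⟨n + 1⟩ = E⟨n⟩ ⊗_C D` -/
theorem isPushout_succ (a : NF) :
    IsPushout (c ≫ inj c a 0) c ((coNF c).map (pr a).op) (inj c ⟨a.n + 1⟩ (Fin.last (a.n + 1))) := by
  let F : ∀ s : PushoutCocone (c ≫ inj c a 0) c, Fin (a.n + 2) → (D ⟶ s.pt) := fun s =>
    Fin.lastCases (motive := fun _ => (D ⟶ s.pt)) s.inr (fun k => inj c a k ≫ s.inl)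
  have F1 : ∀ s, F s (Fin.last (a.n + 1)) = s.inr := fun s => Fin.lastCases_last (motive := fun _ => (D ⟶ s.pt))
  have F2 : ∀ s k, F s (Fin.castSucc k) = inj c a k ≫ s.inl := fun s k =>
    Fin.lastCases_castSucc (motive := fun _ => (D ⟶ s.pt)) k
  have key : ∀ s (x : Fin (a.n + 2)), c ≫ F s x = c ≫ s.inr := by
    intro s x
    refine Fin.lastCases ?_ (fun k => ?_) x
    · rw [F1]
    · rw [F2, inj_w_assoc c a k 0, ← Category.assoc, s.condition]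
  refine ⟨⟨?_⟩, ⟨PushoutCocone.IsColimit.mk _ (fun s => dsc (a := ⟨a.n + 1⟩) (F s) (fun k l => by rw [key, key]))
    (fun s => ?_) (fun s => ?_) (fun s m h1 h2 => ?_)⟩⟩
  · rw [Category.assoc, inj_pr]
    exact inj_w c ⟨a.n + 1⟩ _ _
  · refine ext fun k => ?_
    rw [inj_pr_assoc, inj_dsc]
    exact F2 s k
  · rw [inj_dsc, F1]
  · refine ext fun x => ?_
    rw [inj_dsc]
    refine Fin.lastCases ?_ (fun k => ?_) x
    · rw [F1, ← h2]
    · rw [F2, ← h1, inj_pr_assoc]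

end

section Act

variable {𝒦 : Type u} [Category.{v} 𝒦]

/-- The groupoid `A` acts on `D` from the right: `R1 = D ⊗_(A⟨0⟩) A⟨1⟩`, `σ` = source, `τ` = action, `g` = the arrow;
`assoc` on `T`-points. -/
structure ActD (A : NFᵒᵖ ⥤ 𝒦) (D R1 : 𝒦) where
  p : A.obj (op ⟨0⟩) ⟶ D
  σ : D ⟶ R1
  τ : D ⟶ R1
  g : A.obj (op ⟨1⟩) ⟶ R1
  po : IsPushout (A.map (pr ⟨0⟩).op) p g σ
  ht : A.map (lst ⟨0⟩).op ≫ g = p ≫ τ
  assoc : ∀ {T : 𝒦} (r r' r'' : R1 ⟶ T) (m : A.obj (op ⟨2⟩) ⟶ T), σ ≫ r' = τ ≫ r → σ ≫ r'' = σ ≫ r →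
    A.map (edge (0 : Fin 3) 1).op ≫ m = g ≫ r → A.map (edge (1 : Fin 3) 2).op ≫ m = g ≫ r' →
    A.map (edge (0 : Fin 3) 2).op ≫ m = g ≫ r'' → τ ≫ r'' = τ ≫ r'

variable [HasFiniteWidePushouts 𝒦] {C D R1 : 𝒦} {A : NFᵒᵖ ⥤ 𝒦} (c : C ⟶ D) (X : ActD A D R1)

/-- the comparison `R1 = D ⊗_C D` -/
noncomputable def ActD.u (hC : IsPushout c c X.σ X.τ) : R1 ⟶ (coNF c).obj (op ⟨1⟩) :=
  hC.desc (inj c ⟨1⟩ 0) (inj c ⟨1⟩ 1) (inj_w c ⟨1⟩ 0 1)

@[reassoc]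
theorem ActD.σ_u (hC : IsPushout c c X.σ X.τ) : X.σ ≫ X.u c hC = inj c ⟨1⟩ 0 := hC.inl_desc _ _ _

@[reassoc]
theorem ActD.τ_u (hC : IsPushout c c X.σ X.τ) : X.τ ≫ X.u c hC = inj c ⟨1⟩ 1 := hC.inr_desc _ _ _

theorem ActD.isIso_u (hC : IsPushout c c X.σ X.τ) : IsIso (X.u c hC) := by
  refine ⟨(isPushout_inj1 c).desc X.σ X.τ hC.w, ?_, ?_⟩
  · apply hC.hom_ext
    · rw [σ_u_assoc, IsPushout.inl_desc, Category.comp_id]
    · rw [τ_u_assoc, IsPushout.inr_desc, Category.comp_id]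
  · apply (isPushout_inj1 c).hom_ext
    · rw [IsPushout.inl_desc_assoc, σ_u, Category.comp_id]
    · rw [IsPushout.inr_desc_assoc, τ_u, Category.comp_id]

/-- the datum of a map `A ⟶ coNF c` -/
noncomputable def ActD.dat (hC : IsPushout c c X.σ X.τ) : Dat A (coNF c) where
  j0 := X.p ≫ inj c ⟨0⟩ 0
  j1 := X.g ≫ X.u c hC
  h0 := by
    have e := inj_map c (pt ⟨1⟩ 0) 0
    rw [Category.assoc]
    refine Eq.trans ?_ (congrArg (fun t => X.p ≫ t) e.symm)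
    change _ = X.p ≫ inj c ⟨1⟩ 0
    rw [← X.σ_u c hC, ← Category.assoc, ← Category.assoc, ← X.po.w, pr_zero]
  h1 := by
    have e := inj_map c (pt ⟨1⟩ 1) 0
    rw [Category.assoc]
    refine Eq.trans ?_ (congrArg (fun t => X.p ≫ t) e.symm)
    change _ = X.p ≫ inj c ⟨1⟩ 1
    rw [← X.τ_u c hC, ← Category.assoc, ← Category.assoc, ← X.ht, lst_zero]
  cocycle := by
    intro m h01 h02
    have e : ∀ (x y : Fin 3) (k : Fin 2), inj c ⟨1⟩ k ≫ (coNF c).map (edge x y).op = inj c ⟨2⟩ ((![x, y] : Fin 2 → Fin 3) k) :=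
      fun x y k => inj_map c (edge x y) k
    let r : ∀ x y : Fin 3, R1 ⟶ (coNF c).obj (op ⟨2⟩) := fun x y => X.u c hC ≫ (coNF c).map (edge x y).op
    have hσ : ∀ x y, X.σ ≫ r x y = inj c ⟨2⟩ x := fun x y => (X.σ_u_assoc c hC _).trans (e x y 0)
    have hτ : ∀ x y, X.τ ≫ r x y = inj c ⟨2⟩ y := fun x y => (X.τ_u_assoc c hC _).trans (e x y 1)
    rw [Category.assoc] at h01 h02 ⊢
    -- the arrow of the second edge
    have hw : A.map (pr ⟨0⟩).op ≫ A.map (edge (1 : Fin 3) 2).op ≫ m = X.p ≫ inj c ⟨2⟩ 1 := by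
      have e1 : edge (1 : Fin 3) 2 ≫ pr ⟨0⟩ = edge (0 : Fin 3) 1 ≫ lst ⟨0⟩ := by
        rw [pr_zero, lst_zero, edge_pt0, edge_pt1]
      rw [← A.map_comp_assoc, ← op_comp, e1, op_comp, A.map_comp_assoc, h01, ← Category.assoc, X.ht, Category.assoc,
        ← hτ 0 1]
    obtain ⟨r', hr1, hr2⟩ : ∃ r' : R1 ⟶ (coNF c).obj (op ⟨2⟩), X.g ≫ r' = A.map (edge (1 : Fin 3) 2).op ≫ m ∧
        X.σ ≫ r' = inj c ⟨2⟩ 1 := ⟨X.po.desc _ _ hw, X.po.inl_desc _ _ _, X.po.inr_desc _ _ _⟩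
    have h2 : X.τ ≫ r 0 2 = X.τ ≫ r' := X.assoc (r 0 1) r' (r 0 2) m (hr2.trans (hτ 0 1).symm)
      ((hσ 0 2).trans (hσ 0 1).symm) h01 hr1.symm h02
    have h3 : r' = r 1 2 := by
      apply hC.hom_ext
      · rw [hr2, hσ]
      · rw [← h2, hτ, hτ]
    rw [← hr1, h3]

/-- **a cartesian natural transformation `A ⟶ coNF c`** -/
theorem ActD.exists_nat (hA : Seg A) (hC : IsPushout c c X.σ X.τ) : ∃ j : A ⟶ coNF c,
    j.app (op ⟨0⟩) = X.p ≫ inj c ⟨0⟩ 0 ∧ j.app (op ⟨1⟩) = X.g ≫ X.u c hC ∧ ∀ {a b : NF} (φ : a ⟶ b), Sq j φ := by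
  obtain ⟨j, h0, h1⟩ := (X.dat c hC).exists_nat hA
  refine ⟨j, h0, h1, fun φ => isPushout_nat hA (seg_coNF c) j ?_ φ⟩
  have i0 := isIso_inj0 c
  have i1 := X.isIso_u c hC
  have e := inj_map c (pr ⟨0⟩) 0
  have s2 : IsPushout X.σ (inj c ⟨0⟩ 0) (X.u c hC) ((coNF c).map (pr ⟨0⟩).op) :=
    IsPushout.of_vert_isIso ⟨(X.σ_u c hC).trans e.symm⟩
  have s3 := X.po.paste_vert s2
  rw [Sq, h0, h1]
  exact s3

end Act

section Ring

universe w

open K784.BC K784.PM K741.RP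

variable {C D : CommRingCat.{w}} (c : C ⟶ D)

/-- **the conerve of a faithfully flat ring map is a groupoid ring** -/
theorem gr_coNF (hc : c.hom.FaithfullyFlat) : GR (coNF c) where
  ff a := by
    have h := isPushout_succ c a
    exact IsPO.ff (ρ := c.hom) (α := (c ≫ inj c a 0).hom) (β := (inj c ⟨a.n + 1⟩ (Fin.last (a.n + 1))).hom)
      (φ := rg (coNF c) (pr a)) h.flip hc
  po φ := seg_coNF c φ

/-- `Seg` for a groupoid ring -/
theorem seg_of_GR {A : NFᵒᵖ ⥤ CommRingCat.{w}} (h : GR A) : Seg A := fun φ => h.po φ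

/-- **(c1)**: a free and transitive action over `C` gives a cartesian map into the conerve -/
theorem exists_cart {A : NFᵒᵖ ⥤ CommRingCat.{w}} (hA : GR A) {R1 : CommRingCat.{w}} (X : ActD A D R1)
    (hC : IsPushout c c X.σ X.τ) : ∃ j : A ⟶ coNF c, j.app (op ⟨0⟩) = X.p ≫ inj c ⟨0⟩ 0 ∧
      j.app (op ⟨1⟩) = X.g ≫ X.u c hC ∧ ∀ {a b : NF} (φ : a ⟶ b), IsPO (rg A φ) (j.app (op b)).hom (j.app (op a)).hom (rg (coNF c) φ) := by
  obtain ⟨j, h0, h1, h⟩ := X.exists_nat c (seg_of_GR hA) hC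
  exact ⟨j, h0, h1, fun φ => h φ⟩

end Ring

end Groth.Agent.ResProp.EF.K128.Conerve
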