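import Groth.Agent.ResProp.EF.K128.QuotFr
import Groth.Agent.S0082

/-!
# From the quasi-affine quotient `g : W ⟶ F` to the affine cover

`U = Spec A`, `s : RG ⟶ U` the source of an affine flat groupoid, `W ⟶ U` with an action of the groupoid,
`g : W ⟶ F` the fppf quotient, so that `W ×_F W = W ×_U RG`.  Then `g` is affine, and for every affine scheme `Y₀` with an affine
morphism `y : Y₀ ⟶ F` the scheme `D₀ = Y₀ ×_F W` is affine, faithfully flat over `Y₀`, and `D₀ ×_{Y₀} D₀ = D₀ ×_U RG`.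
-/

set_option autoImplicit false

universe u

open CategoryTheory Limits AlgebraicGeometry

namespace Groth.Agent.ResProp.EF.K128.Cover

/-- A square is a pull-back as soon as lifts exist and are unique. -/
theorem isPullback_of_exists {C : Type*} [Category C] {P X Y Z : C} (p : P ⟶ X) (q : P ⟶ Y) (f : X ⟶ Z) (g : Y ⟶ Z)
    (w : p ≫ f = q ≫ g)
    (ex : ∀ (T : C) (x : T ⟶ X) (y : T ⟶ Y), x ≫ f = y ≫ g → ∃ l : T ⟶ P, l ≫ p = x ∧ l ≫ q = y)
    (un : ∀ (T : C) (m m' : T ⟶ P), m ≫ p = m' ≫ p → m ≫ q = m' ≫ q → m = m') :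
    IsPullback p q f g := by
  refine ⟨⟨w⟩, ⟨PullbackCone.IsLimit.mk _
    (fun s => (ex s.pt s.fst s.snd s.condition).choose)
    (fun s => (ex s.pt s.fst s.snd s.condition).choose_spec.1)
    (fun s => (ex s.pt s.fst s.snd s.condition).choose_spec.2) (fun s m h1 h2 => un _ _ _ ?_ ?_)⟩⟩
  · rw [h1]; exact (ex s.pt s.fst s.snd s.condition).choose_spec.1.symm
  · rw [h2]; exact (ex s.pt s.fst s.snd s.condition).choose_spec.2.symm

/-- An fpqc cover one of whose kernel pair projections is affine is affine. -/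
theorem isAffineHom_quot {W F P : Scheme.{u}} (g : W ⟶ F) [Surjective g] [Flat g] [QuasiCompact g]
    (p q : P ⟶ W) (hp : IsPullback p q g g) (h : IsAffineHom p) : IsAffineHom g := by
  have : MorphismProperty.DescendsAlong @IsAffineHom
    (@Surjective ⊓ @Flat ⊓ @QuasiCompact : MorphismProperty Scheme.{u}) := Groth.Agent.S0082.result
  exact MorphismProperty.of_isPullback_of_descendsAlong (P := @IsAffineHom)
    (Q := @Surjective ⊓ @Flat ⊓ @QuasiCompact) hp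
    ⟨⟨inferInstance, inferInstance⟩, inferInstance⟩ h

/-- The kernel pair of a base change: if `W ×_F W = W ×_U RG` (first projection `a` and action map `q`), then for
`D₀ = Y₀ ×_F W` we have `D₀ ×_{Y₀} D₀ = D₀ ×_U RG` with the induced action map. -/
theorem isPullback_cover {C : Type*} [Category C] {U RG W F P Y₀ D₀ PD : C} (s : RG ⟶ U) (pW : W ⟶ U) (g : W ⟶ F)
    (a q : P ⟶ W) (b : P ⟶ RG) (hP : IsPullback a b pW s) (hK : IsPullback a q g g)
    (y : Y₀ ⟶ F) (π : D₀ ⟶ Y₀) (w : D₀ ⟶ W) (hD : IsPullback π w y g)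
    (a' : PD ⟶ D₀) (b' : PD ⟶ RG) (hPD : IsPullback a' b' (w ≫ pW) s) :
    ∃ (q' : PD ⟶ D₀) (c : PD ⟶ P), c ≫ a = a' ≫ w ∧ c ≫ b = b' ∧ c ≫ q = q' ≫ w ∧ IsPullback a' q' π π := by
  have e1 : (a' ≫ w) ≫ pW = b' ≫ s := by rw [Category.assoc]; exact hPD.w
  obtain ⟨c, hca, hcb⟩ : ∃ c : PD ⟶ P, c ≫ a = a' ≫ w ∧ c ≫ b = b' :=
    ⟨hP.lift (a' ≫ w) b' e1, hP.lift_fst _ _ _, hP.lift_snd _ _ _⟩
  have e2 : (a' ≫ π) ≫ y = (c ≫ q) ≫ g := by
    rw [Category.assoc, Category.assoc, hD.w, ← hK.w, reassoc_of% hca]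
  obtain ⟨q', hq1, hq2⟩ : ∃ q' : PD ⟶ D₀, q' ≫ π = a' ≫ π ∧ q' ≫ w = c ≫ q :=
    ⟨hD.lift (a' ≫ π) (c ≫ q) e2, hD.lift_fst _ _ _, hD.lift_snd _ _ _⟩
  refine ⟨q', c, hca, hcb, hq2.symm, isPullback_of_exists _ _ _ _ hq1.symm (fun T x z hxz => ?_)
    (fun T m m' h1 h2 => ?_)⟩
  · have f1 : (x ≫ w) ≫ g = (z ≫ w) ≫ g := by
      rw [Category.assoc, Category.assoc, ← hD.w, reassoc_of% hxz]
    obtain ⟨d, hd1, hd2⟩ : ∃ d : T ⟶ P, d ≫ a = x ≫ w ∧ d ≫ q = z ≫ w :=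
      ⟨hK.lift _ _ f1, hK.lift_fst _ _ _, hK.lift_snd _ _ _⟩
    have f2 : x ≫ w ≫ pW = (d ≫ b) ≫ s := by
      rw [Category.assoc, ← hP.w, reassoc_of% hd1]
    obtain ⟨l, hl1, hl2⟩ : ∃ l : T ⟶ PD, l ≫ a' = x ∧ l ≫ b' = d ≫ b :=
      ⟨hPD.lift _ _ f2, hPD.lift_fst _ _ _, hPD.lift_snd _ _ _⟩
    have hlc : l ≫ c = d := by
      apply hP.hom_ext
      · rw [Category.assoc, hca, reassoc_of% hl1, hd1]
      · rw [Category.assoc, hcb, hl2]
    refine ⟨l, hl1, ?_⟩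
    apply hD.hom_ext
    · rw [Category.assoc, hq1, reassoc_of% hl1, hxz]
    · rw [Category.assoc, hq2, reassoc_of% hlc, hd2]
  · apply hPD.hom_ext h1
    rw [← hcb, ← Category.assoc, ← Category.assoc]
    congr 1
    apply hK.hom_ext
    · rw [Category.assoc, Category.assoc, hca, reassoc_of% h1]
    · rw [Category.assoc, Category.assoc, ← hq2, reassoc_of% h2]

/-- The affine cover: `Y₀` affine and affine over `F`; `D₀ = Y₀ ×_F W` is affine and faithfully flat over `Y₀`, and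
`D₀ ⟶ U` is of finite type if `Y₀ ⟶ F` and `W ⟶ U` are. -/
theorem cover {U W F P Y₀ D₀ : Scheme.{u}} (pW : W ⟶ U) (g : W ⟶ F) [Surjective g] [Flat g] [QuasiCompact g]
    (a q : P ⟶ W) (hK : IsPullback a q g g) [IsAffineHom a]
    (y : Y₀ ⟶ F) [IsAffine Y₀] (π : D₀ ⟶ Y₀) (w : D₀ ⟶ W) (hD : IsPullback π w y g) :
    IsAffine D₀ ∧ IsAffineHom π ∧ Flat π ∧ Surjective π ∧
      ((LocallyOfFiniteType y ∧ LocallyOfFiniteType pW) → LocallyOfFiniteType (w ≫ pW)) := by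
  have hg : IsAffineHom g := isAffineHom_quot g a q hK inferInstance
  have h1 : IsAffineHom π := MorphismProperty.of_isPullback (P := @IsAffineHom) hD.flip hg
  have h2 : Flat π := MorphismProperty.of_isPullback (P := @Flat) hD.flip inferInstance
  have h3 : Surjective π := MorphismProperty.of_isPullback (P := @Surjective) hD.flip inferInstance
  refine ⟨isAffine_of_isAffineHom π, h1, h2, h3, fun h => ?_⟩
  obtain ⟨h4, h5⟩ := h
  have h6 : LocallyOfFiniteType w := MorphismProperty.of_isPullback (P := @LocallyOfFiniteType) hD h4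
  infer_instance

end Groth.Agent.ResProp.EF.K128.Cover
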