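import Groth.Agent.ResProp.EF.K128.Z2a
import Groth.Agent.ResProp.EF.K610.Rho

/-!
# `CoverIn` : the input of the last step of G1, and `CoverIn → CoverDatum`

`D`, `R1`, `X : ActD A D R1` (the groupoid `A` acts on `D`, `R1 = D ⊗ Γ`, `σ`, `τ`, `g`), `C → D` faithfully flat with
`R1 = D ⊗_C D`, a coaction of `H` on `D` and on `R1`, all maps equivariant, `g` invariant, the FIN datum and the point.
-/

set_option autoImplicit false
set_option linter.dupNamespace false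
set_option linter.style.haveILetI false

universe u

open CategoryTheory CategoryTheory.Limits Opposite TensorProduct
open EF56 K784.BC K784.PM K741.RP

noncomputable section

namespace Groth.Agent.ResProp.EF.K128

open Nerve Conerve AffY

/-- **The input of the last step of G1** -/
structure CoverIn (k : Type u) [CommRing k] (A : NFᵒᵖ ⥤ CommRingCat.{u}) [Arch.GRF k A]
    (x : PrimeSpectrum (A.obj (op ⟨0⟩))) (H : Grp.Gp k) where
  D : Type u
  [crD : CommRing D]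
  [algD : Algebra (A.obj (op ⟨0⟩)) D]
  [algkD : Algebra k D]
  [twD : IsScalarTower k (A.obj (op ⟨0⟩)) D]
  ft : Algebra.FiniteType (A.obj (op ⟨0⟩)) D
  R1 : Type u
  [crR1 : CommRing R1]
  [algkR1 : Algebra k R1]
  /-- the action of the groupoid `A` on `D`, `R1` = arrows with a point over the source -/
  X : ActD A (CommRingCat.of D) (CommRingCat.of R1)
  X_p : ∀ a, X.p.hom a = algebraMap (A.obj (op ⟨0⟩)) D a
  σ : D →ₐ[k] R1
  τ : D →ₐ[k] R1
  hσ : ∀ z, X.σ.hom z = σ z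
  hτ : ∀ z, X.τ.hom z = τ z
  C : Type u
  [crC : CommRing C]
  [algC : Algebra C D]
  ff : Module.FaithfullyFlat C D
  hC : IsPushout (CommRingCat.ofHom (algebraMap C D)) (CommRingCat.ofHom (algebraMap C D)) X.σ X.τ
  ρ : K83.CoAlg k H.O D
  ρ_A : ∀ a, ρ.ρ (algebraMap (A.obj (op ⟨0⟩)) D a) = algebraMap (A.obj (op ⟨0⟩)) D a ⊗ₜ 1
  /-- the coaction on `R1` -/
  ρ1 : R1 →+* R1 ⊗[k] H.O
  ρ1_g : ∀ b, ρ1 (X.g.hom b) = (show R1 from X.g.hom b) ⊗ₜ 1
  ρ1_σ : ∀ z, ρ1 (σ z) = Algebra.TensorProduct.map σ (AlgHom.id k H.O) (ρ.ρ z)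
  ρ1_τ : ∀ z, ρ1 (τ z) = Algebra.TensorProduct.map τ (AlgHom.id k H.O) (ρ.ρ z)
  cR : K83.CoAlg (A.obj (op ⟨0⟩)) ((A.obj (op ⟨0⟩)) ⊗[k] H.O) D
  cR_eq : ∀ z : D, Algebra.TensorProduct.cancelBaseChange k (A.obj (op ⟨0⟩)) (A.obj (op ⟨0⟩)) D H.O (cR.ρ z) = ρ.ρ z
  fin : K83.FinDatum (A.obj (op ⟨0⟩)) ((A.obj (op ⟨0⟩)) ⊗[k] H.O) D cR
  pt : ∃ y : PrimeSpectrum D, PrimeSpectrum.comap (algebraMap (A.obj (op ⟨0⟩)) D) y = x

/-- **`CoverIn → CoverDatum`** -/
theorem CoverIn.datum {k : Type u} [CommRing k] {A : NFᵒᵖ ⥤ CommRingCat.{u}} [Arch.GRF k A]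
    {x : PrimeSpectrum (A.obj (op ⟨0⟩))} {H : Grp.Gp k} (kill : Grp.Kill H) (I : CoverIn k A x H) :
    Nonempty (Arch.CoverDatum k A x) := by
  obtain ⟨D, ft, R1, X, X_p, σ, τ, hσ, hτ, C, ff, hC, ρ, ρ_A, ρ1, ρ1_g, ρ1_σ, ρ1_τ, cR, cR_eq, fin, pt⟩ := I
  rename_i crD algD algkD twD crR1 algkR1 crC algC
  have hA : GR A := Arch.GRF.gr k
  -- the algebra structures are the ones of `Arch.AffOver`
  have e1 : algkR1 = ((X.g.hom : A.obj (op ⟨1⟩) →+* R1).comp (algebraMap k (A.obj (op ⟨1⟩)))).toAlgebra := by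
    refine Algebra.algebra_ext _ _ fun r => ?_
    change algebraMap k R1 r = X.g.hom (algebraMap k (A.obj (op ⟨1⟩)) r)
    rw [← σ.commutes r, ← hσ, IsScalarTower.algebraMap_apply k (A.obj (op ⟨0⟩)) D, ← X_p,
      ← Arch.GRF.map_k (k := k) (A := A) (pr ⟨0⟩) r]
    exact (congr($(congrArg CommRingCat.Hom.hom X.po.w) (algebraMap k (A.obj (op ⟨0⟩)) r))).symm
  subst e1
  have e2 : algkD = ((X.p.hom : A.obj (op ⟨0⟩) →+* D).comp (algebraMap k (A.obj (op ⟨0⟩)))).toAlgebra := by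
    refine Algebra.algebra_ext _ _ fun r => ?_
    change algebraMap k D r = X.p.hom (algebraMap k (A.obj (op ⟨0⟩)) r)
    rw [X_p]
    exact IsScalarTower.algebraMap_apply k (A.obj (op ⟨0⟩)) D r
  subst e2
  have e3 : algD = (X.p.hom : A.obj (op ⟨0⟩) →+* D).toAlgebra := by
    refine Algebra.algebra_ext _ _ fun r => ?_
    exact (X_p r).symm
  subst e3
  letI iR1 : Algebra k R1 := ((X.g.hom : A.obj (op ⟨1⟩) →+* R1).comp (algebraMap k (A.obj (op ⟨1⟩)))).toAlgebra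
  letI iD : Algebra k D := ((X.p.hom : A.obj (op ⟨0⟩) →+* D).comp (algebraMap k (A.obj (op ⟨0⟩)))).toAlgebra
  letI iAD : Algebra (A.obj (op ⟨0⟩)) D := (X.p.hom : A.obj (op ⟨0⟩) →+* D).toAlgebra
  let Y : Arch.AffOver A := affY (CommRingCat.ofHom (algebraMap C D)) X hC hA
  have hff : (algebraMap C D).FaithfullyFlat := RingHom.faithfullyFlat_algebraMap_iff.2 ff
  have hrk : ∀ z, Y.rk (k := k) (pr ⟨0⟩) z = σ z := fun z => by
    refine Eq.trans ?_ (hσ z)
    exact congr($(rg_pr (CommRingCat.ofHom (algebraMap C D)) X hC hA) z)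
  have hrl : ∀ z, Y.rk (k := k) (lst ⟨0⟩) z = τ z := fun z => by
    refine Eq.trans ?_ (hτ z)
    exact congr($(rg_lst (CommRingCat.ofHom (algebraMap C D)) X hC hA) z)
  have hrk' : (Y.rk (k := k) (pr ⟨0⟩) : D →ₐ[k] R1) = σ := AlgHom.ext hrk
  have hrl' : (Y.rk (k := k) (lst ⟨0⟩) : D →ₐ[k] R1) = τ := AlgHom.ext hrl
  have H1 : K610.RhoOne (k := k) (O := H.O) Y ρ ρ1 :=
    { lin := ρ1_g
      pr := fun z => (congrArg ρ1 (hrk z)).trans ((ρ1_σ z).trans
        (congrArg (fun f : D →ₐ[k] R1 => Algebra.TensorProduct.map f (AlgHom.id k H.O) (ρ.ρ z)) hrk'.symm))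
      lst := fun z => (congrArg ρ1 (hrl z)).trans ((ρ1_τ z).trans
        (congrArg (fun f : D →ₐ[k] R1 => Algebra.TensorProduct.map f (AlgHom.id k H.O) (ρ.ρ z)) hrl'.symm)) }
  obtain ⟨r, hr0, hrn, hrlin⟩ := K610.exists_rho (k := k) (O := H.O) (Y := Y) ρ ρ_A H1
  exact ⟨{ H := H
           kill := kill
           Y := Y
           ft := ft
           C := C
           gal := galY (CommRingCat.ofHom (algebraMap C D)) X hC hA hff
           ρ := r
           ρ_nat := hrn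
           ρ_lin := hrlin
           cR := cR
           cR_eq := fun z => by
             rw [hr0]
             exact cR_eq z
           fin := fin
           pt := pt }⟩

end Groth.Agent.ResProp.EF.K128
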