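import Groth.Agent.ResProp.EF.K649.CovWit
import Groth.Agent.ResProp.EF.K90.CoHom
import Groth.Agent.ResProp.EF.K90.GrGen0
import Groth.Agent.ResProp.EF.K280.ProdTop

/-!
# `GenN` from the comodule structures on the graded pieces

`exists_genN`: if the graded pieces of the levels `0`, `1` carry comodule structures which are compatible with the faces and
which at level `0` is the one of the coaction of the datum, then the graded piece has equivariant generators.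
-/

set_option autoImplicit false
set_option linter.unusedSectionVars false
set_option linter.dupNamespace false
set_option linter.style.haveILetI false

universe u

open CategoryTheory Opposite TensorProduct

noncomputable section

namespace Groth.Agent.ResProp.EF.K128.GenOf

open K784.BC K784.PM K741.RP EF56 Groth.Agent.ResProp.EF.Grp Groth.Agent.ResProp.EF.Arch
open Groth.Agent.ResProp.EF.K86 (omPM omk omC)
open Groth.Agent.ResProp.EF.K863 (Model)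
open Groth.Agent.ResProp.EF.K567 (rhoOf)
open Groth.Agent.ResProp.EF.K884.MatPt (IsMC)
open Groth.Agent.ResProp.EF.K884.EtaD (upt)
open Groth.Agent.ResProp.EF.K884.LevPM (inb)
open Groth.Agent.ResProp.EF.K884.LevW (dIso)
open Groth.Agent.ResProp.EF.K341 (MHom rhoI om Sq)
open Groth.Agent.ResProp.EF.K90 (wOf mfam MFam sqY om_sqY mhomInc mhomCo wO grMap exists_grU)
open Groth.Agent.ResProp.EF.K280 (GenN StmtGen)

variable {k : Type u} [CommRing k] {A : NFᵒᵖ ⥤ CommRingCat.{u}} [GRF k A]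
  {x : PrimeSpectrum (A.obj (op ⟨0⟩))} (c : CoverDatum k A x)
  {ι : Type} [Fintype ι] [DecidableEq ι] {C : Matrix ι ι c.H.O} (hC : IsMC C) (F : MFam c.Y ι)
  (hinv : ∀ l, (omPM c.Y.j).map (pr ⟨0⟩) (show (omPM c.Y.j).obj ⟨0⟩ from F.w ⟨0⟩ l) =
    (omPM c.Y.j).map (lst ⟨0⟩) (show (omPM c.Y.j).obj ⟨0⟩ from F.w ⟨0⟩ l))
  (hco : letI := omk c ⟨0⟩; ∀ l, (omC c ⟨0⟩).coact (show (omPM c.Y.j).obj ⟨0⟩ from F.w ⟨0⟩ l) =
    ∑ m, (show (omPM c.Y.j).obj ⟨0⟩ from F.w ⟨0⟩ m) ⊗ₜ[k] C m l)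
  [Algebra (A.obj (op ⟨0⟩) ⊗[k] c.H.O) (c.Y.D.obj (op ⟨0⟩) ⊗[k] c.H.O)]
  (hal : ∀ (r : A.obj (op ⟨0⟩)) (o : c.H.O),
    algebraMap (A.obj (op ⟨0⟩) ⊗[k] c.H.O) (c.Y.D.obj (op ⟨0⟩) ⊗[k] c.H.O) (r ⊗ₜ o) =
      algebraMap (A.obj (op ⟨0⟩)) (c.Y.D.obj (op ⟨0⟩)) r ⊗ₜ o)

include hal in
/-- **generators from the comodule structures** -/
theorem exists_genN [IsNoetherianRing (A.obj (op ⟨0⟩))] (hSC : SerreCover c.H) (n : ℕ)
    (mO : Model (A.obj (op ⟨0⟩) ⊗[k] c.H.O) (c.Y.D.obj (op ⟨0⟩) ⊗[k] c.H.O) (ι → c.Y.D.obj (op ⟨0⟩) ⊗[k] c.H.O)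
      (rhoI (wO c ⟨0⟩ hal (F.w ⟨0⟩))))
    (co0 : HopfRep.Comod k c.H.O ((F.m ⟨0⟩).gr n)) (co1 : HopfRep.Comod k c.H.O ((F.m ⟨1⟩).gr n))
    (hp : ∀ z, co1.coact (grMap c F n (pr ⟨0⟩) z) = (grMap c F n (pr ⟨0⟩)).rTensor c.H.O (co0.coact z))
    (hq : ∀ z, co1.coact (grMap c F n (lst ⟨0⟩) z) = (grMap c F n (lst ⟨0⟩)).rTensor c.H.O (co0.coact z))
    (can : (F.m ⟨0⟩).gr n ⊗[k] c.H.O →+ mO.gr n)
    (can_tmul : ∀ z o, can (z ⊗ₜ o) = ((1 : A.obj (op ⟨0⟩)) ⊗ₜ[k] o) • (mhomInc c ⟨0⟩ hal (F.w ⟨0⟩)).gr (F.m ⟨0⟩) mO n z)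
    (hcan : ∀ z, can (co0.coact z) = (mhomCo c ⟨0⟩ hal (F.w ⟨0⟩) C hco).gr (F.m ⟨0⟩) mO n z) :
    Nonempty (GenN (H := c.H) (ρ := rhoOf (F.w ⟨0⟩)) (F.m ⟨0⟩) (dIso c hC hinv hco c.H.O 1 0 1 (upt c.H))
      (inb k A c.H.O 1) n) := by
  obtain ⟨r, u, M, h1, h2, h3, h4, h5⟩ := exists_grU c hSC F n co0 co1 hp hq
  have hcoU : ∀ l, (mhomCo c ⟨0⟩ hal (F.w ⟨0⟩) C hco).gr (F.m ⟨0⟩) mO n ((F.m ⟨0⟩).toGr n (u l)) =
      ∑ q, ((1 : A.obj (op ⟨0⟩)) ⊗ₜ[k] M q l) •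
        (mhomInc c ⟨0⟩ hal (F.w ⟨0⟩)).gr (F.m ⟨0⟩) mO n ((F.m ⟨0⟩).toGr n (u q)) := fun l => by
    refine (hcan _).symm.trans ((congrArg can (h1 l)).trans ((map_sum can _ _).trans ?_))
    exact Finset.sum_congr rfl fun q _ => can_tmul _ _
  have key := fun (φ) (hφ) (i) => K649.cond_lv (c := c) F hal (mhomInc c ⟨0⟩ hal (F.w ⟨0⟩)) C (fun p q => rfl)
    (mhomCo c ⟨0⟩ hal (F.w ⟨0⟩) C hco) mO u M h2 hcoU c.H.O 1 0 1 (AlgHom.id k c.H.O)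
    (dIso c hC hinv hco c.H.O 1 0 1 (upt c.H))
    (fun d => K884.EtaD.vtxD_etaD_bc c 1 0 1 (upt c.H) d)
    (fun p => K567.matV_single _ _ p) φ hφ i
  exact ⟨{ r := r, u := fun i => (u i : (F.m ⟨0⟩).PP), hu := fun i => (u i).2, M := M, hM := ⟨h3, h4⟩, span := h5,
           cond := key }⟩

end Groth.Agent.ResProp.EF.K128.GenOf
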