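import Groth.Agent.ResProp.EF.K341.GrCo

/-!
# Naturality of the coaction on the graded pieces

`p : MHom ω ω₁ x η 1` a map of data over `k` which commutes with the coactions: the map on the graded pieces is a map of
comodules.
-/

set_option autoImplicit false
set_option linter.style.haveILetI false
set_option linter.unusedSectionVars false

universe u

open TensorProduct MvPolynomial

namespace Groth.Agent.ResProp.EF.K128.GrNat

open Groth.Agent.ResProp.EF.K863 Groth.Agent.ResProp.EF.K341 K784.BC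

attribute [local instance] algT

section rings

variable {k : Type u} [CommRing k] {R : Type u} [CommRing R] [Algebra k R] {R₁ : Type u} [CommRing R₁] [Algebra k R₁]
  (O : Type u) [CommRing O] [Algebra k O]

/-- `x ⊗ O` -/
noncomputable def xO (x : R →ₐ[k] R₁) : R ⊗[k] O →+* R₁ ⊗[k] O := (Algebra.TensorProduct.map x (AlgHom.id k O)).toRingHom

variable {O}

@[simp] theorem xO_tmul (x : R →ₐ[k] R₁) (r : R) (o : O) : xO O x (r ⊗ₜ o) = x r ⊗ₜ o := rfl

theorem xO_iI (x : R →ₐ[k] R₁) (r : R) : xO O x (iI k R O r) = iI k R₁ O (x r) := rfl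

end rings

section nat

variable {k : Type u} [CommRing k] {R : Type u} [CommRing R] [Algebra k R] {D : Type u} [CommRing D] [Algebra k D]
  [Algebra R D] [IsScalarTower k R D] {R₁ : Type u} [CommRing R₁] [Algebra k R₁] {D₁ : Type u} [CommRing D₁]
  [Algebra k D₁] [Algebra R₁ D₁] [IsScalarTower k R₁ D₁] {ι : Type*} [Fintype ι] [DecidableEq ι]
  {ω : ι → Ω[D⁄R]} {ω₁ : ι → Ω[D₁⁄R₁]} {O : Type u} [CommRing O] [HopfAlgebra k O]
  {co : K83.CoAlg k O D} {co₁ : K83.CoAlg k O D₁} {C : Matrix ι ι O}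
  {x : R →ₐ[k] R₁} {η : D →ₐ[k] D₁}

theorem sqO (sq : Sq R D (x : R →+* R₁) (η : D →+* D₁)) : Sq (R ⊗[k] O) (D ⊗[k] O) (xO O x) (xO O η) := ⟨fun r => by
  induction r with
  | zero => rw [map_zero, map_zero, map_zero, map_zero]
  | add a b ha hb => rw [map_add, map_add, map_add, map_add, ha, hb]
  | tmul a o =>
    rw [algT_tmul, xO_tmul, xO_tmul, algT_tmul]
    congr 1
    exact sq.alg a⟩

/-- the map of data after `- ⊗ O` -/
theorem mO' (p : MHom ω ω₁ (x : R →+* R₁) (η : D →+* D₁) 1) : MHom (ωT (k := k) ω O) (ωT (k := k) ω₁ O) (xO O x) (xO O η) 1 where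
  sq := sqO p.sq
  rel i := by
    refine Eq.trans ?_ (one_rel (fun j => ωT (k := k) ω₁ O j) i)
    have e : om p.sq (ω i) = ω₁ i := (p.rel i).trans (one_rel (fun j => ω₁ j) i).symm
    rw [ωT, ωT, ← om_comp (sqO p.sq) (sqI k R D O) ((sqO p.sq).comp (sqI k R D O)), ← e,
      ← om_comp (sqI k R₁ D₁ O) p.sq ((sqI k R₁ D₁ O).comp p.sq)]
    exact om_congr _ _ (fun d => rfl) _

variable {m : Model R D (ι → D) (rhoI ω)} {m₁ : Model R₁ D₁ (ι → D₁) (rhoI ω₁)} {n : ℕ}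
  {mO : Model (R ⊗[k] O) (D ⊗[k] O) (ι → D ⊗[k] O) (rhoI (ωT ω O))}
  {mO₁ : Model (R₁ ⊗[k] O) (D₁ ⊗[k] O) (ι → D₁ ⊗[k] O) (rhoI (ωT ω₁ O))}

/-- compatibility with the base change -/
theorem gr_inc (p : MHom ω ω₁ (x : R →+* R₁) (η : D →+* D₁) 1) (z : m.gr n) :
    (mO' (O := O) p).gr mO mO₁ n ((mI (k := k) ω O).gr m mO n z) = (mI (k := k) ω₁ O).gr m₁ mO₁ n (p.gr m m₁ n z) := by
  have e1 := (mI (k := k) ω₁ O).comp p
  refine Eq.trans ?_ ((mI (k := k) ω₁ O).gr_comp p e1 rfl (fun _ => rfl) (fun i j => Matrix.mul_apply) m m₁ mO₁ n z)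
  refine ((mO' (O := O) p).gr_comp (mI (k := k) ω O) e1 rfl (fun _ => rfl) (fun i j => ?_) m mO mO₁ n z).symm
  rw [Matrix.one_mul, Matrix.map_apply, ← one_apply_comp (xO O η), Matrix.one_apply, Matrix.one_apply]
  split_ifs
  · rw [map_one]
  · rw [map_zero]

/-- compatibility with the coactions -/
theorem gr_rho (h : CoDat ω co C) (h₁ : CoDat ω₁ co₁ C) (p : MHom ω ω₁ (x : R →+* R₁) (η : D →+* D₁) 1)
    (hρ : ∀ d, co₁.ρ (η d) = xO O η (co.ρ d)) (z : m.gr n) :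
    (mO' (O := O) p).gr mO mO₁ n (h.mρ.gr m mO n z) = h₁.mρ.gr m₁ mO₁ n (p.gr m m₁ n z) := by
  have e1 := h₁.mρ.comp p
  refine Eq.trans ?_ (h₁.mρ.gr_comp p e1 rfl (fun _ => rfl) (fun i j => Matrix.mul_apply) m m₁ mO₁ n z)
  refine ((mO' (O := O) p).gr_comp h.mρ e1 rfl (fun d => hρ d) (fun i j => ?_) m mO mO₁ n z).symm
  rw [Matrix.mul_apply, Finset.sum_eq_single j, Finset.sum_eq_single i]
  · rw [Matrix.map_apply, Matrix.one_apply_eq, Matrix.one_apply_eq, map_one, mul_one, one_mul]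
    change (1 : D₁) ⊗ₜ[k] C i j = xO O η ((1 : D) ⊗ₜ[k] C i j)
    rw [xO_tmul, map_one]
  · intro l _ hl
    rw [Matrix.one_apply_ne (Ne.symm hl), zero_mul]
  · intro hj; exact absurd (Finset.mem_univ i) hj
  · intro l _ hl
    rw [Matrix.map_apply, Matrix.one_apply_ne hl, map_zero, mul_zero]
  · intro hj; exact absurd (Finset.mem_univ j) hj

variable {N : Type u} [AddCommGroup N] [Module k N] {N₁ : Type u} [AddCommGroup N₁] [Module k N₁]

/-- **the map on the graded pieces is a map of comodules** -/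
theorem coact_nat (h : CoDat ω co C) (h₁ : CoDat ω₁ co₁ C) (p : MHom ω ω₁ (x : R →+* R₁) (η : D →+* D₁) 1)
    (hρ : ∀ d, co₁.ρ (η d) = xO O η (co.ρ d)) (eN : N ≃+ m.gr n) (eN₁ : N₁ ≃+ m₁.gr n)
    (can : N ⊗[k] O →+ mO.gr n) (can₁ : N₁ ⊗[k] O →+ mO₁.gr n) (hcan₁ : Function.Injective can₁)
    (can_t : ∀ z s, can (z ⊗ₜ s) = ((1 : D) ⊗ₜ[k] s) • (mI (k := k) ω O).gr m mO n (eN z))
    (can₁_t : ∀ z s, can₁ (z ⊗ₜ s) = ((1 : D₁) ⊗ₜ[k] s) • (mI (k := k) ω₁ O).gr m₁ mO₁ n (eN₁ z))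
    (cN : HopfRep.Comod k O N) (cN₁ : HopfRep.Comod k O N₁)
    (hc : ∀ z, can (cN.coact z) = h.mρ.gr m mO n (eN z)) (hc₁ : ∀ z, can₁ (cN₁.coact z) = h₁.mρ.gr m₁ mO₁ n (eN₁ z))
    (P : N →ₗ[k] N₁) (hP : ∀ z, eN₁ (P z) = p.gr m m₁ n (eN z)) (z : N) :
    cN₁.coact (P z) = P.rTensor O (cN.coact z) := by
  apply hcan₁
  have key : ∀ w : N ⊗[k] O, (mO' (O := O) p).gr mO mO₁ n (can w) = can₁ (P.rTensor O w) := by
    intro w
    induction w with
    | zero => rw [map_zero, map_zero, map_zero, map_zero]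
    | add a b ha hb => rw [map_add, map_add, map_add, map_add, ha, hb]
    | tmul z s =>
      have e1 : xO O η ((1 : D) ⊗ₜ[k] s) = (1 : D₁) ⊗ₜ[k] s := by rw [xO_tmul, map_one]
      rw [LinearMap.rTensor_tmul]
      refine (congrArg _ (can_t z s)).trans ?_
      refine ((mO' (O := O) p).gr_smul mO mO₁ n _ _).trans ?_
      refine (congrArg₂ (· • ·) e1 ((gr_inc (m₁ := m₁) p (eN z)).trans (congrArg _ (hP z).symm))).trans ?_
      exact (can₁_t (P z) s).symm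
  refine (hc₁ (P z)).trans ?_
  refine (congrArg (h₁.mρ.gr m₁ mO₁ n) (hP z)).trans ?_
  refine (gr_rho (mO := mO) h h₁ p hρ (eN z)).symm.trans ?_
  exact (congrArg _ (hc z).symm).trans (key _)

end nat

end Groth.Agent.ResProp.EF.K128.GrNat
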