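import Groth.Agent.ResProp.EF.Base

/-!
# Maps out of a groupoid ring are determined by edges

`A E : NFᵒᵖ ⥤ 𝒦`, all `wmap` squares of `A` pushouts.  A compatible pair `j₀ : A⟨0⟩ ⟶ E⟨0⟩`, `j₁ : A⟨1⟩ ⟶ E⟨1⟩` satisfying one
cocycle condition on `E⟨2⟩` extends uniquely to a natural transformation `A ⟶ E` (`exists_nat`).  If the `wmap` squares of `E` are
pushouts and the square of `j` over `pr ⟨0⟩` is a pushout, then all squares of `j` are (`isPushout_nat`).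
-/

set_option autoImplicit false

universe v u

open CategoryTheory CategoryTheory.Limits Opposite

namespace Groth.Agent.ResProp.EF.K128.Nerve

open EF56

variable {𝒦 : Type u} [Category.{v} 𝒦]

/-- the edge `(i, j)` -/
def edge {n : ℕ} (i j : Fin (n + 1)) : (⟨n⟩ : NF) ⟶ ⟨1⟩ := (![i, j] : Fin 2 → Fin (n + 1))

/-- the 2-simplex `(i, j, k)` -/
def tri {n : ℕ} (i j k : Fin (n + 1)) : (⟨n⟩ : NF) ⟶ ⟨2⟩ := (![i, j, k] : Fin 3 → Fin (n + 1))

/-- All `wmap` squares are pushouts. -/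
def Seg (A : NFᵒᵖ ⥤ 𝒦) : Prop :=
  ∀ {a b : NF} (φ : a ⟶ b), IsPushout (A.map φ.op) (A.map (pr b).op) (A.map (pr a).op) (A.map (wmap φ).op)

theorem nf_comp' {a b c : NF} (f : a ⟶ b) (g : b ⟶ c) (i : Fin (c.n + 1)) :
    (f ≫ g : a ⟶ c) i = f (g i) := rfl

theorem edge_pt0 {n : ℕ} (i j : Fin (n + 1)) : edge i j ≫ pt ⟨1⟩ 0 = pt ⟨n⟩ i := by
  funext x; rfl

theorem edge_pt1 {n : ℕ} (i j : Fin (n + 1)) : edge i j ≫ pt ⟨1⟩ 1 = pt ⟨n⟩ j := by
  funext x; rfl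

theorem tri_edge01 {n : ℕ} (i j k : Fin (n + 1)) : tri i j k ≫ edge (0 : Fin 3) 1 = edge i j := by
  funext x; fin_cases x <;> rfl

theorem tri_edge02 {n : ℕ} (i j k : Fin (n + 1)) : tri i j k ≫ edge (0 : Fin 3) 2 = edge i k := by
  funext x; fin_cases x <;> rfl

theorem tri_edge12 {n : ℕ} (i j k : Fin (n + 1)) : tri i j k ≫ edge (1 : Fin 3) 2 = edge j k := by
  funext x; fin_cases x <;> rfl

theorem tri_edge00 {n : ℕ} (i j k : Fin (n + 1)) : tri i j k ≫ edge (0 : Fin 3) 0 = edge i i := by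
  funext x; fin_cases x <;> rfl

theorem comp_edge {a : NF} {n : ℕ} (φ : a ⟶ ⟨n⟩) (i j : Fin (n + 1)) :
    φ ≫ edge i j = edge (n := a.n) (φ i) (φ j) := by
  funext x; fin_cases x <;> rfl

theorem pr_edge {n : ℕ} (i j : Fin (n + 1)) : pr ⟨n⟩ ≫ edge i j = edge (n := n + 1) i.castSucc j.castSucc := by
  funext x; fin_cases x <;> rfl

theorem wmap_pt {n : ℕ} (i : Fin (n + 1)) :
    (wmap (pt ⟨n⟩ i) : (⟨n + 1⟩ : NF) ⟶ ⟨1⟩) = edge (n := n + 1) i.castSucc (Fin.last (n + 1)) := by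
  funext x; fin_cases x <;> rfl

theorem pr_zero : pr ⟨0⟩ = pt ⟨1⟩ 0 := by
  funext x; fin_cases x; rfl

theorem lst_zero : lst ⟨0⟩ = pt ⟨1⟩ 1 := by
  funext x; fin_cases x; rfl

variable {A E : NFᵒᵖ ⥤ 𝒦}

/-- Maps out of `A⟨n⟩` agree if they agree on the edges `(0, i)`. -/
theorem hom_ext (hA : Seg A) (n : ℕ) {T : 𝒦} (f g : A.obj (op ⟨n⟩) ⟶ T)
    (h : ∀ i : Fin (n + 1), A.map (edge 0 i).op ≫ f = A.map (edge 0 i).op ≫ g) : f = g := by
  induction n with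
  | zero =>
    have h0 := h 0
    have e : (edge (0 : Fin 1) 0) = (edge (0 : Fin 1) 0) := rfl
    have e1 : A.map (pt ⟨1⟩ 0).op ≫ A.map (edge (0 : Fin 1) 0).op = 𝟙 _ := by
      rw [← A.map_comp, ← op_comp, edge_pt0, ← A.map_id]
      congr 2
      funext x; fin_cases x; rfl
    have := congrArg (fun t => A.map (pt ⟨1⟩ 0).op ≫ t) h0
    simpa only [reassoc_of% e1] using this
  | succ n ih =>
    have sq := hA (pt ⟨n⟩ 0)
    apply sq.hom_ext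
    · apply ih
      intro i
      have := h i.castSucc
      have e : edge (n := n + 1) 0 i.castSucc = pr ⟨n⟩ ≫ edge 0 i := (pr_edge 0 i).symm
      rw [e, op_comp, A.map_comp, Category.assoc, Category.assoc] at this
      exact this
    · have := h (Fin.last (n + 1))
      rw [wmap_pt]
      exact this

/-- The data from which a natural transformation `A ⟶ E` is built. -/
structure Dat (A E : NFᵒᵖ ⥤ 𝒦) where
  j0 : A.obj (op ⟨0⟩) ⟶ E.obj (op ⟨0⟩)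
  j1 : A.obj (op ⟨1⟩) ⟶ E.obj (op ⟨1⟩)
  h0 : A.map (pt ⟨1⟩ 0).op ≫ j1 = j0 ≫ E.map (pt ⟨1⟩ 0).op
  h1 : A.map (pt ⟨1⟩ 1).op ≫ j1 = j0 ≫ E.map (pt ⟨1⟩ 1).op
  cocycle : ∀ m : A.obj (op ⟨2⟩) ⟶ E.obj (op ⟨2⟩),
    A.map (edge (0 : Fin 3) 1).op ≫ m = j1 ≫ E.map (edge (0 : Fin 3) 1).op →
    A.map (edge (0 : Fin 3) 2).op ≫ m = j1 ≫ E.map (edge (0 : Fin 3) 2).op →
    A.map (edge (1 : Fin 3) 2).op ≫ m = j1 ≫ E.map (edge (1 : Fin 3) 2).op

namespace Dat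

variable (d : Dat A E)

/-- compatibility of a map `A⟨n⟩ ⟶ E⟨n⟩` with all edges -/
def Good (n : ℕ) (f : A.obj (op ⟨n⟩) ⟶ E.obj (op ⟨n⟩)) : Prop :=
  ∀ i k : Fin (n + 1), A.map (edge i k).op ≫ f = d.j1 ≫ E.map (edge i k).op

theorem Good.pt {n : ℕ} {f : A.obj (op ⟨n⟩) ⟶ E.obj (op ⟨n⟩)} (h : d.Good n f) (i : Fin (n + 1)) :
    A.map (pt ⟨n⟩ i).op ≫ f = d.j0 ≫ E.map (pt ⟨n⟩ i).op := by
  rw [← edge_pt0 i i, op_comp, A.map_comp, E.map_comp, Category.assoc, h i i, reassoc_of% d.h0]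

/-- extension step on the edges `(0, i)` -/
theorem exists_step (hA : Seg A) (n : ℕ) (f : A.obj (op ⟨n⟩) ⟶ E.obj (op ⟨n⟩))
    (hf : ∀ i : Fin (n + 1), A.map (edge 0 i).op ≫ f = d.j1 ≫ E.map (edge 0 i).op)
    (hp : A.map (EF56.pt ⟨n⟩ 0).op ≫ f = d.j0 ≫ E.map (EF56.pt ⟨n⟩ 0).op) :
    ∃ g : A.obj (op ⟨n + 1⟩) ⟶ E.obj (op ⟨n + 1⟩),
      ∀ i : Fin (n + 2), A.map (edge (n := n + 1) 0 i).op ≫ g = d.j1 ≫ E.map (edge (n := n + 1) 0 i).op := by
  have sq : IsPushout (A.map (EF56.pt ⟨n⟩ 0).op) (A.map (pr ⟨0⟩).op) (A.map (pr ⟨n⟩).op)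
      (A.map (edge (n := n + 1) 0 (Fin.last (n + 1))).op) := by
    have h := hA (EF56.pt ⟨n⟩ 0)
    rw [wmap_pt] at h
    exact h
  have e1 : (pr ⟨n⟩ ≫ EF56.pt ⟨n⟩ 0 : (⟨n + 1⟩ : NF) ⟶ ⟨0⟩) =
      edge (n := n + 1) 0 (Fin.last (n + 1)) ≫ EF56.pt ⟨1⟩ 0 := by
    rw [edge_pt0]; funext x; fin_cases x; rfl
  have w : A.map (EF56.pt ⟨n⟩ 0).op ≫ f ≫ E.map (pr ⟨n⟩).op =
      A.map (pr ⟨0⟩).op ≫ d.j1 ≫ E.map (edge (n := n + 1) 0 (Fin.last (n + 1))).op := by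
    rw [reassoc_of% hp, ← E.map_comp, ← op_comp, e1, op_comp, E.map_comp, pr_zero, reassoc_of% d.h0]
  refine ⟨sq.desc (f ≫ E.map (pr ⟨n⟩).op) (d.j1 ≫ E.map (edge (n := n + 1) 0 (Fin.last (n + 1))).op) w, fun i => ?_⟩
  refine Fin.lastCases ?_ (fun i => ?_) i
  · exact sq.inr_desc (f ≫ E.map (pr ⟨n⟩).op) (d.j1 ≫ E.map (edge (n := n + 1) 0 (Fin.last (n + 1))).op) w
  · have e : edge (n := n + 1) 0 i.castSucc = pr ⟨n⟩ ≫ edge 0 i := (pr_edge 0 i).symm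
    rw [e, op_comp, A.map_comp, E.map_comp, Category.assoc, sq.inl_desc, reassoc_of% (hf i)]

/-- from the edges `(0, i)` to all edges -/
theorem good_of (hA : Seg A) (j2 : A.obj (op ⟨2⟩) ⟶ E.obj (op ⟨2⟩))
    (hj2 : ∀ i : Fin 3, A.map (edge (0 : Fin 3) i).op ≫ j2 = d.j1 ≫ E.map (edge (0 : Fin 3) i).op)
    (n : ℕ) (f : A.obj (op ⟨n⟩) ⟶ E.obj (op ⟨n⟩))
    (hf : ∀ i : Fin (n + 1), A.map (edge 0 i).op ≫ f = d.j1 ≫ E.map (edge 0 i).op) : d.Good n f := by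
  intro i k
  have h12 := d.cocycle j2 (hj2 1) (hj2 2)
  have key : A.map (tri 0 i k).op ≫ f = j2 ≫ E.map (tri 0 i k).op := by
    apply hom_ext hA 2
    intro x
    have : tri 0 i k ≫ edge (0 : Fin 3) x = edge 0 ((![0, i, k] : Fin 3 → Fin (n + 1)) x) := by
      rw [comp_edge]; rfl
    rw [← A.map_comp_assoc, ← op_comp, this, hf, reassoc_of% (hj2 x), ← E.map_comp, ← op_comp, this]
  rw [← tri_edge12 0 i k, op_comp, A.map_comp, E.map_comp, Category.assoc, key, reassoc_of% h12]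

/-- the map on 2-simplices with edges `(0,1)`, `(0,2)` prescribed -/
theorem exists_j2 (hA : Seg A) : ∃ j2 : A.obj (op ⟨2⟩) ⟶ E.obj (op ⟨2⟩),
    A.map (edge (0 : Fin 3) 1).op ≫ j2 = d.j1 ≫ E.map (edge (0 : Fin 3) 1).op ∧
    A.map (edge (0 : Fin 3) 2).op ≫ j2 = d.j1 ≫ E.map (edge (0 : Fin 3) 2).op := by
  have sq : IsPushout (A.map (EF56.pt ⟨1⟩ 0).op) (A.map (pr ⟨0⟩).op) (A.map (pr ⟨1⟩).op)
      (A.map (edge (n := 2) 0 (Fin.last 2)).op) := by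
    have h := hA (EF56.pt ⟨1⟩ 0)
    rw [wmap_pt] at h
    exact h
  have e0 : (pr ⟨1⟩ : (⟨2⟩ : NF) ⟶ ⟨1⟩) = edge (0 : Fin 3) 1 := by
    funext x; fin_cases x <;> rfl
  rw [e0] at sq
  have w : A.map (EF56.pt ⟨1⟩ 0).op ≫ d.j1 ≫ E.map (edge (0 : Fin 3) 1).op =
      A.map (pr ⟨0⟩).op ≫ d.j1 ≫ E.map (edge (n := 2) 0 (Fin.last 2)).op := by
    rw [pr_zero, reassoc_of% d.h0, reassoc_of% d.h0, ← E.map_comp, ← E.map_comp, ← op_comp, ← op_comp, edge_pt0,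
      edge_pt0]
  exact ⟨sq.desc _ _ w, sq.inl_desc _ _ w, sq.inr_desc _ _ w⟩

/-- the degenerate edge -/
theorem edge_diag {n : ℕ} (i : Fin (n + 1)) : edge i i = EF56.pt ⟨n⟩ i ≫ edge (0 : Fin 1) 0 := by
  funext x; fin_cases x <;> rfl

/-- the unit condition follows from the cocycle condition (`A` is a groupoid) -/
theorem unit (hA : Seg A) : A.map (edge (0 : Fin 1) 0).op ≫ d.j0 = d.j1 ≫ E.map (edge (0 : Fin 1) 0).op := by
  obtain ⟨j2, h01, h02⟩ := d.exists_j2 hA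
  have h12 := d.cocycle j2 h01 h02
  let u : A.obj (op ⟨1⟩) ⟶ E.obj (op ⟨0⟩) := d.j1 ≫ E.map (edge (0 : Fin 1) 0).op
  let m : A.obj (op ⟨2⟩) ⟶ E.obj (op ⟨0⟩) := j2 ≫ E.map (tri (0 : Fin 1) 0 0).op
  let m' : A.obj (op ⟨2⟩) ⟶ E.obj (op ⟨0⟩) := A.map (tri (0 : Fin 2) 1 1).op ≫ u
  have hu1 : A.map (EF56.pt ⟨1⟩ 1).op ≫ u = d.j0 := by
    have e : edge (0 : Fin 1) 0 ≫ EF56.pt ⟨1⟩ 1 = 𝟙 _ := by
      rw [edge_pt1]; funext x; fin_cases x; rfl
    rw [reassoc_of% d.h1, ← E.map_comp, ← op_comp, e, op_id, E.map_id, Category.comp_id]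
  have hm : ∀ x y : Fin 3, A.map (edge x y).op ≫ j2 = d.j1 ≫ E.map (edge x y).op →
      A.map (edge x y).op ≫ m = u := by
    intro x y h
    have e : tri (0 : Fin 1) 0 0 ≫ edge x y = edge (0 : Fin 1) 0 := by
      funext z
      exact Subsingleton.elim (α := Fin 1) _ _
    change _ ≫ j2 ≫ _ = _
    rw [reassoc_of% h, ← E.map_comp, ← op_comp, e]
  have hid : edge (0 : Fin 2) 1 = 𝟙 (⟨1⟩ : NF) := by
    funext x; fin_cases x <;> rfl
  have hm'01 : A.map (edge (0 : Fin 3) 1).op ≫ m' = u := by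
    change _ ≫ _ ≫ u = u
    rw [← A.map_comp_assoc, ← op_comp, tri_edge01, hid, op_id, A.map_id, Category.id_comp]
  have hm'02 : A.map (edge (0 : Fin 3) 2).op ≫ m' = u := by
    change _ ≫ _ ≫ u = u
    rw [← A.map_comp_assoc, ← op_comp, tri_edge02, hid, op_id, A.map_id, Category.id_comp]
  have hm'12 : A.map (edge (1 : Fin 3) 2).op ≫ m' = A.map (edge (0 : Fin 1) 0).op ≫ d.j0 := by
    change _ ≫ _ ≫ u = _
    rw [← A.map_comp_assoc, ← op_comp, tri_edge12, edge_diag, op_comp, A.map_comp, Category.assoc, hu1]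
  have e00 : (edge (0 : Fin 3) 0) = edge (0 : Fin 3) 1 ≫ EF56.pt ⟨1⟩ 0 ≫ edge (0 : Fin 1) 0 := by
    rw [edge_diag, ← Category.assoc, edge_pt0]
  have hmm : m = m' := by
    apply hom_ext hA 2
    intro i
    fin_cases i
    · change A.map (edge (0 : Fin 3) 0).op ≫ m = A.map (edge (0 : Fin 3) 0).op ≫ m'
      rw [e00, op_comp, A.map_comp, Category.assoc, Category.assoc, hm 0 1 h01, hm'01]
    · exact (hm 0 1 h01).trans hm'01.symm
    · exact (hm 0 2 h02).trans hm'02.symm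
  calc A.map (edge (0 : Fin 1) 0).op ≫ d.j0 = A.map (edge (1 : Fin 3) 2).op ≫ m' := hm'12.symm
    _ = A.map (edge (1 : Fin 3) 2).op ≫ m := by rw [hmm]
    _ = u := hm 1 2 h12

/-- good maps exist in all degrees -/
theorem exists_good (hA : Seg A) (n : ℕ) : ∃ f : A.obj (op ⟨n⟩) ⟶ E.obj (op ⟨n⟩), d.Good n f := by
  have hu := d.unit hA
  -- edges `(0, i)` of `j1`
  have hid : edge (0 : Fin 2) 1 = 𝟙 (⟨1⟩ : NF) := by
    funext x; fin_cases x <;> rfl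
  have h1 : ∀ i : Fin 2, A.map (edge (n := 1) 0 i).op ≫ d.j1 = d.j1 ≫ E.map (edge (n := 1) 0 i).op := by
    intro i
    fin_cases i
    · change A.map (edge (0 : Fin 2) 0).op ≫ d.j1 = d.j1 ≫ E.map (edge (0 : Fin 2) 0).op
      rw [edge_diag, op_comp, A.map_comp, E.map_comp, Category.assoc, d.h0, reassoc_of% hu]
    · change A.map (edge (0 : Fin 2) 1).op ≫ d.j1 = d.j1 ≫ E.map (edge (0 : Fin 2) 1).op
      rw [hid, op_id, A.map_id, E.map_id, Category.comp_id]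
      exact Category.id_comp _
  obtain ⟨j2, hj2⟩ := d.exists_step hA 1 d.j1 h1 d.h0
  induction n with
  | zero =>
    refine ⟨d.j0, fun i k => ?_⟩
    have e1 : edge i k = edge (0 : Fin 1) 0 := by
      have h1 : i = 0 := Subsingleton.elim (α := Fin 1) _ _
      have h2 : k = 0 := Subsingleton.elim (α := Fin 1) _ _
      rw [h1, h2]
    rw [e1]
    exact hu
  | succ n ih =>
    obtain ⟨f, hf⟩ := ih
    obtain ⟨g, hg⟩ := d.exists_step hA n f (fun i => hf 0 i) (Good.pt d hf 0)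
    exact ⟨g, d.good_of hA j2 hj2 (n + 1) g hg⟩

/-- **A natural transformation out of a groupoid object is given by its values on objects and arrows.** -/
theorem exists_nat (hA : Seg A) : ∃ j : A ⟶ E, j.app (op ⟨0⟩) = d.j0 ∧ j.app (op ⟨1⟩) = d.j1 := by
  choose f hf using d.exists_good hA
  let j : A ⟶ E :=
    { app := fun a => f a.unop.n
      naturality := by
        intro a b φ
        apply hom_ext hA a.unop.n
        intro i
        have e1 : φ.unop ≫ edge (n := a.unop.n) 0 i = edge (n := b.unop.n) (φ.unop 0) (φ.unop i) :=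
          comp_edge (a := b.unop) (n := a.unop.n) φ.unop 0 i
        change A.map (edge 0 i).op ≫ A.map φ ≫ f b.unop.n = A.map (edge 0 i).op ≫ f a.unop.n ≫ E.map φ
        rw [reassoc_of% (hf a.unop.n 0 i)]
        have e2 : A.map (edge (n := a.unop.n) 0 i).op ≫ A.map φ =
            A.map (edge (n := b.unop.n) (φ.unop 0) (φ.unop i)).op := by
          rw [← e1, ← A.map_comp]; rfl
        have e3 : E.map (edge (n := a.unop.n) 0 i).op ≫ E.map φ =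
            E.map (edge (n := b.unop.n) (φ.unop 0) (φ.unop i)).op := by
          rw [← e1, ← E.map_comp]; rfl
        rw [reassoc_of% e2, e3]
        exact hf b.unop.n _ _ }
  refine ⟨j, ?_, ?_⟩
  · have := (hf 0 : d.Good 0 (f 0)).pt d 0
    have e : EF56.pt ⟨0⟩ 0 = 𝟙 (⟨0⟩ : NF) := by
      funext x; exact Subsingleton.elim (α := Fin 1) _ _
    rw [e, op_id, A.map_id, E.map_id, Category.comp_id] at this
    exact (Category.id_comp _).symm.trans this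
  · have := hf 1 0 1
    have e : edge (0 : Fin 2) 1 = 𝟙 (⟨1⟩ : NF) := by
      funext x; fin_cases x <;> rfl
    rw [e, op_id, A.map_id, E.map_id, Category.comp_id] at this
    exact (Category.id_comp _).symm.trans this

end Dat

section Cartesian

variable (hA : Seg A) (hE : Seg E) (j : A ⟶ E)

/-- the square of `j` over `φ` is a pushout -/
def Sq {a b : NF} (φ : a ⟶ b) : Prop := IsPushout (A.map φ.op) (j.app (op b)) (j.app (op a)) (E.map φ.op)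

theorem Sq.comp {a b c : NF} {φ : a ⟶ b} {ψ : b ⟶ c} (h1 : Sq j φ) (h2 : Sq j ψ) : Sq j (φ ≫ ψ) := by
  rw [Sq, op_comp, A.map_comp, E.map_comp]
  exact IsPushout.paste_horiz h2 h1

theorem Sq.cancel {a b c : NF} {φ : a ⟶ b} {ψ : b ⟶ c} (h1 : Sq j (φ ≫ ψ)) (h2 : Sq j ψ) : Sq j φ := by
  rw [Sq, op_comp, A.map_comp, E.map_comp] at h1
  exact IsPushout.of_left h1 (j.naturality φ.op) h2

theorem Sq.of_isIso {a b : NF} (φ : a ⟶ b) [IsIso φ] : Sq j φ :=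
  IsPushout.of_horiz_isIso ⟨j.naturality φ.op⟩

include hA hE in
/-- **cartesian if cartesian over `pr ⟨0⟩`** -/
theorem isPushout_nat (h : Sq j (pr ⟨0⟩)) {a b : NF} (φ : a ⟶ b) : Sq j φ := by
  have step1 : ∀ n : ℕ, Sq j (pr ⟨n⟩) := by
    intro n
    have sA := hA (pt ⟨n⟩ 0)
    have sE := hE (pt ⟨n⟩ 0)
    have h' : IsPushout (j.app (op ⟨0⟩)) (A.map (pr ⟨0⟩).op) (E.map (pr ⟨0⟩).op) (j.app (op ⟨1⟩)) := h.flip
    have h1 := IsPushout.paste_horiz h' sE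
    rw [← j.naturality, ← j.naturality] at h1
    exact (IsPushout.of_left h1 (by rw [j.naturality]) sA).flip
  have step2 : ∀ n : ℕ, Sq j (pt ⟨n⟩ 0) := by
    intro n
    induction n with
    | zero =>
      have e : pt ⟨0⟩ 0 = 𝟙 (⟨0⟩ : NF) := by
        funext x; exact Subsingleton.elim (α := Fin 1) _ _
      rw [e]
      exact Sq.of_isIso j _
    | succ n ih =>
      have e : pt ⟨n + 1⟩ 0 = pr ⟨n⟩ ≫ pt ⟨n⟩ 0 := by
        funext x; rfl
      rw [e]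
      exact Sq.comp j (step1 n) ih
  have step3 : ∀ (n : ℕ) (i : Fin (n + 1)), Sq j (pt ⟨n⟩ i) := by
    intro n i
    let σ : (⟨n⟩ : NF) ⟶ ⟨n⟩ := (Equiv.swap 0 i : Fin (n + 1) → Fin (n + 1))
    have hσσ : σ ≫ σ = 𝟙 _ := by
      funext x
      exact Equiv.swap_apply_self 0 i x
    have : IsIso σ := ⟨⟨σ, hσσ, hσσ⟩⟩
    have e : pt ⟨n⟩ i = σ ≫ pt ⟨n⟩ 0 := by
      funext x
      exact (Equiv.swap_apply_left (0 : Fin (n + 1)) i).symm
    rw [e]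
    exact Sq.comp j (Sq.of_isIso j σ) (step2 n)
  have e : φ ≫ pt b 0 = pt a (φ 0) := by
    funext x; rfl
  refine Sq.cancel j (ψ := pt b 0) ?_ (step2 b.n)
  rw [e]
  exact step3 a.n (φ 0)

end Cartesian

end Groth.Agent.ResProp.EF.K128.Nerve
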