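import Groth.Agent.S4092
import Groth.Agent.S4091
import Groth.Agent.S0385
import Mathlib.AlgebraicGeometry.QuasiAffine

/-!
# The quotient of a scheme by the (flat) kernel pair of a morphism to an affine scheme is quasi-affine

`f : W ⟶ Y` of finite presentation, `Y` affine, first projection of `W ×_Y W` flat.  Then `f` is the composite of an fppf cover
`g : W ⟶ F` and a monomorphism `h : F ⟶ Y` (proved row S4092), `h` is of finite type, so quasi-finite and separated, so
(Zariski's main theorem, proved row S0385) `F` is an open subscheme of a scheme `T` finite over `Y`, in particular quasi-affine.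
-/

set_option autoImplicit false

universe u

open CategoryTheory Limits AlgebraicGeometry

namespace Groth.Agent.ResProp.EF.K128.QuotFr

/-- A monomorphism locally of finite type is locally quasi-finite. -/
theorem locallyQuasiFinite_of_mono {X Y : Scheme.{u}} (h : X ⟶ Y) [Mono h] [LocallyOfFiniteType h] :
    LocallyQuasiFinite h := by
  infer_instance

/-- If `g ≫ h = f` with `h` a monomorphism, the kernel pairs of `g` and of `f` agree. -/
theorem isPullback_of_mono {W F Y : Scheme.{u}} (g : W ⟶ F) (h : F ⟶ Y) [Mono h] (f : W ⟶ Y)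
    (e : g ≫ h = f) : IsPullback (pullback.fst f f) (pullback.snd f f) g g := by
  have w : pullback.fst f f ≫ g = pullback.snd f f ≫ g := by
    rw [← cancel_mono h, Category.assoc, Category.assoc, e, pullback.condition]
  refine ⟨⟨w⟩, ⟨PullbackCone.IsLimit.mk _
    (fun s => pullback.lift s.fst s.snd (by rw [← e, s.condition_assoc]))
    (fun s => pullback.lift_fst _ _ _) (fun s => pullback.lift_snd _ _ _)
    (fun s m h1 h2 => pullback.hom_ext (h1.trans (pullback.lift_fst _ _ _).symm)
        (h2.trans (pullback.lift_snd _ _ _).symm))⟩⟩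

/-- The quasi-affine quotient of `W` by the flat kernel pair of `f : W ⟶ Y`, `Y` affine, with its compactification finite
over `Y`. -/
theorem exists_quot {W Y : Scheme.{u}} (f : W ⟶ Y) [IsAffine Y] [LocallyOfFinitePresentation f]
    [QuasiCompact f] (hfl : Flat (pullback.fst f f)) :
    ∃ (F : Scheme.{u}) (g : W ⟶ F) (h : F ⟶ Y) (T : Scheme.{u}) (j : F ⟶ T) (π : T ⟶ Y),
      Surjective g ∧ Flat g ∧ LocallyOfFinitePresentation g ∧ QuasiCompact g ∧ Mono h ∧ g ≫ h = f ∧
      IsPullback (pullback.fst f f) (pullback.snd f f) g g ∧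
      LocallyOfFiniteType h ∧ QuasiCompact h ∧ F.IsQuasiAffine ∧
      IsAffine T ∧ IsOpenImmersion j ∧ QuasiCompact j ∧ IsFinite π ∧ j ≫ π = h := by
  obtain ⟨F, g, h, h1, h2, h3, h4, h5⟩ := (Groth.Agent.S4092.result f).1.2 hfl
  have hft : LocallyOfFiniteType h := by
    have : LocallyOfFiniteType (g ≫ h) := by rw [h5]; infer_instance
    exact Groth.Agent.S4091.locallyOfFiniteType_of_fppf_comp g h
  have hqc : QuasiCompact h := by
    have : QuasiCompact (g ≫ h) := by rw [h5]; infer_instance
    exact Groth.Agent.Sga3.H771.QcDesc.quasiCompact_of_surjective_comp g h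
  have hqg : QuasiCompact g := by
    have : QuasiCompact (g ≫ h) := by rw [h5]; infer_instance
    exact QuasiCompact.of_comp g h
  have hlqf : LocallyQuasiFinite h := locallyQuasiFinite_of_mono h
  obtain ⟨T, j, π, t1, t2, t3, t4⟩ := Groth.Agent.S0385.result h
  have hT : IsAffine T := isAffine_of_isAffineHom π
  have hF : CompactSpace F := QuasiCompact.compactSpace_of_compactSpace h
  exact ⟨F, g, h, T, j, π, h1, h2, h3, hqg, h4, h5, isPullback_of_mono g h f h5, hft, hqc,
    Scheme.IsQuasiAffine.of_isImmersion j, hT, t1, t2, t3, t4⟩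

end Groth.Agent.ResProp.EF.K128.QuotFr
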