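import Groth.Agent.ResProp.EF.K128.Nerve
import Groth.Agent.ResProp.EF.K412.Out

/-!
# Node `K412.R1`: the ring level groupoid of a groupoid ring
-/

set_option autoImplicit false
set_option linter.dupNamespace false

universe u

open CategoryTheory CategoryTheory.Limits Opposite
open Groth.Agent.Grpsch.AffGrpd EF56 K784.BC K784.PM K741.RP

noncomputable section

namespace Groth.Agent.ResProp.EF.K128.R1

open Nerve K412

section

variable {A : NFᵒᵖ ⥤ CommRingCat.{u}} (hA : GR A)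

/-- composition of ring maps along `A` -/
theorem rg_comp' {a b c : NF} (f : a ⟶ b) (g : b ⟶ c) {h : a ⟶ c} (e : f ≫ g = h) : (rg A f).comp (rg A g) = rg A h := by
  rw [← e, rg_comp]

theorem comp_rg {a b c : NF} {T : Type u} [CommRing T] (χ : A.obj (op a) →+* T) (f : a ⟶ b) (g : b ⟶ c) {h : a ⟶ c}
    (e : f ≫ g = h) : (χ.comp (rg A f)).comp (rg A g) = χ.comp (rg A h) := by
  rw [RingHom.comp_assoc, rg_comp' f g e]

include hA in
/-- the square of `A⟨n + 1⟩` glued at the vertex `i` -/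
theorem sq (n : ℕ) (i : Fin (n + 1)) : IsPushout (A.map (pt ⟨n⟩ i).op) (A.map (pr ⟨0⟩).op) (A.map (pr ⟨n⟩).op)
    (A.map (edge (n := n + 1) i.castSucc (Fin.last (n + 1))).op) := by
  have h : Seg A := fun φ => hA.po φ
  have h2 := h (pt ⟨n⟩ i)
  rw [wmap_pt] at h2
  exact h2

include hA in
/-- maps out of `A⟨n + 1⟩` -/
theorem exists_glue (n : ℕ) (i : Fin (n + 1)) {T : Type u} [CommRing T] (χ : A.obj (op ⟨n⟩) →+* T)
    (α : A.obj (op ⟨1⟩) →+* T) (h : α.comp (rg A (pr ⟨0⟩)) = χ.comp (rg A (pt ⟨n⟩ i))) :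
    ∃ ω : A.obj (op ⟨n + 1⟩) →+* T, ω.comp (rg A (pr ⟨n⟩)) = χ ∧
      ω.comp (rg A (edge (n := n + 1) i.castSucc (Fin.last (n + 1)))) = α := by
  have s := sq hA n i
  have w : A.map (pt ⟨n⟩ i).op ≫ CommRingCat.ofHom χ = A.map (pr ⟨0⟩).op ≫ CommRingCat.ofHom α :=
    CommRingCat.hom_ext h.symm
  exact ⟨(s.desc _ _ w).hom, congrArg CommRingCat.Hom.hom (s.inl_desc _ _ w),
    congrArg CommRingCat.Hom.hom (s.inr_desc _ _ w)⟩

theorem pr1 : pr ⟨1⟩ = edge (0 : Fin 3) 1 := by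
  funext x; fin_cases x <;> rfl

include hA in
theorem exists_two {T : Type u} [CommRing T] (α β : A.obj (op ⟨1⟩) →+* T)
    (h : α.comp (rg A (pr ⟨0⟩)) = β.comp (rg A (lst ⟨0⟩))) :
    ∃ χ : A.obj (op ⟨2⟩) →+* T, χ.comp (rg A (edge (0 : Fin 3) 1)) = β ∧ χ.comp (rg A (edge (1 : Fin 3) 2)) = α := by
  rw [lst_zero] at h
  obtain ⟨ω, h1, h2⟩ := exists_glue hA 1 1 β α h
  rw [pr1] at h1
  exact ⟨ω, h1, h2⟩

include hA in
theorem ext_two {T : Type u} [CommRing T] {χ χ' : A.obj (op ⟨2⟩) →+* T}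
    (h1 : χ.comp (rg A (edge (0 : Fin 3) 1)) = χ'.comp (rg A (edge (0 : Fin 3) 1)))
    (h2 : χ.comp (rg A (edge (1 : Fin 3) 2)) = χ'.comp (rg A (edge (1 : Fin 3) 2))) : χ = χ' := by
  have s := sq hA 1 1
  have : CommRingCat.ofHom χ = CommRingCat.ofHom χ' := by
    apply s.hom_ext
    · rw [pr1]
      exact CommRingCat.hom_ext h1
    · exact CommRingCat.hom_ext h2
  exact congrArg CommRingCat.Hom.hom this

/-- the composition of arrows -/
def cmp {T : Type u} [CommRing T] (α β : A.obj (op ⟨1⟩) →+* T)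
    (h : α.comp (rg A (pr ⟨0⟩)) = β.comp (rg A (lst ⟨0⟩))) : A.obj (op ⟨1⟩) →+* T :=
  (exists_two hA α β h).choose.comp (rg A (edge (0 : Fin 3) 2))

theorem cmp_eq {T : Type u} [CommRing T] (α β : A.obj (op ⟨1⟩) →+* T)
    (h : α.comp (rg A (pr ⟨0⟩)) = β.comp (rg A (lst ⟨0⟩))) (χ : A.obj (op ⟨2⟩) →+* T)
    (h1 : χ.comp (rg A (edge (0 : Fin 3) 1)) = β) (h2 : χ.comp (rg A (edge (1 : Fin 3) 2)) = α) :
    cmp hA α β h = χ.comp (rg A (edge (0 : Fin 3) 2)) := by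
  have hs := (exists_two hA α β h).choose_spec
  rw [cmp, ext_two hA (hs.1.trans h1.symm) (hs.2.trans h2.symm)]

theorem edge01 : edge (0 : Fin 2) 1 = 𝟙 (⟨1⟩ : NF) := by
  funext x; fin_cases x <;> rfl

theorem rg_edge01 : rg A (edge (0 : Fin 2) 1) = RingHom.id _ := by
  rw [edge01, rg_id]

theorem edge_self {n : ℕ} (i : Fin (n + 1)) : EF56.pt ⟨n⟩ i ≫ edge (0 : Fin 1) 0 = edge i i := by
  funext x; fin_cases x <;> rfl

/-- **the ring level groupoid** -/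
def grpd : RGrpd (A.obj (op ⟨0⟩)) (A.obj (op ⟨1⟩)) where
  s := rg A (pr ⟨0⟩)
  t := rg A (lst ⟨0⟩)
  e := rg A (edge (0 : Fin 1) 0)
  i := rg A (edge (1 : Fin 2) 0)
  comp α β h := cmp hA α β h
  comp_s α β h := by
    obtain ⟨χ, h1, h2⟩ := exists_two hA α β h
    rw [cmp_eq hA α β h χ h1 h2, ← h1, pr_zero, comp_rg χ _ _ (edge_pt0 _ _), comp_rg χ _ _ (edge_pt0 _ _)]
  comp_t α β h := by
    obtain ⟨χ, h1, h2⟩ := exists_two hA α β h
    rw [cmp_eq hA α β h χ h1 h2, ← h2, lst_zero, comp_rg χ _ _ (edge_pt1 _ _), comp_rg χ _ _ (edge_pt1 _ _)]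
  comp_nat f α β h := by
    obtain ⟨χ, h1, h2⟩ := exists_two hA α β h
    rw [cmp_eq hA α β h χ h1 h2, cmp_eq hA (f.comp α) (f.comp β) _ (f.comp χ) (by rw [RingHom.comp_assoc, h1])
      (by rw [RingHom.comp_assoc, h2]), RingHom.comp_assoc]
  assoc α β γ h₁ h₂ := by
    obtain ⟨χ, h1, h2⟩ := exists_two hA β γ h₂
    have h3 : α.comp (rg A (pr ⟨0⟩)) = χ.comp (rg A (pt ⟨2⟩ 2)) := by
      rw [h₁, ← h2, lst_zero, comp_rg χ _ _ (edge_pt1 _ _)]
    obtain ⟨ω, w1, w2⟩ := exists_glue hA 2 2 χ α h3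
    have e : ∀ i j : Fin 3, pr ⟨2⟩ ≫ edge i j = edge (n := 3) i.castSucc j.castSucc := fun i j => pr_edge i j
    have w01 : ω.comp (rg A (edge (0 : Fin 4) 1)) = γ := by
      rw [← h1, ← w1]
      exact (comp_rg ω _ _ (e 0 1)).symm
    have w12 : ω.comp (rg A (edge (1 : Fin 4) 2)) = β := by
      rw [← h2, ← w1]
      exact (comp_rg ω _ _ (e 1 2)).symm
    have w23 : ω.comp (rg A (edge (2 : Fin 4) 3)) = α := w2
    have k1 : cmp hA β γ h₂ = ω.comp (rg A (edge (0 : Fin 4) 2)) := by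
      rw [cmp_eq hA β γ h₂ (ω.comp (rg A (tri (0 : Fin 4) 1 2))) (by rw [comp_rg ω _ _ (tri_edge01 _ _ _), w01])
        (by rw [comp_rg ω _ _ (tri_edge12 _ _ _), w12]), comp_rg ω _ _ (tri_edge02 _ _ _)]
    have k2 : cmp hA α β h₁ = ω.comp (rg A (edge (1 : Fin 4) 3)) := by
      rw [cmp_eq hA α β h₁ (ω.comp (rg A (tri (1 : Fin 4) 2 3))) (by rw [comp_rg ω _ _ (tri_edge01 _ _ _), w12])
        (by rw [comp_rg ω _ _ (tri_edge12 _ _ _), w23]), comp_rg ω _ _ (tri_edge02 _ _ _)]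
    rw [cmp_eq hA _ _ _ (ω.comp (rg A (tri (0 : Fin 4) 1 3))) (by rw [comp_rg ω _ _ (tri_edge01 _ _ _), w01])
        (by rw [comp_rg ω _ _ (tri_edge12 _ _ _), k2]), comp_rg ω _ _ (tri_edge02 _ _ _),
      cmp_eq hA _ _ _ (ω.comp (rg A (tri (0 : Fin 4) 2 3))) (by rw [comp_rg ω _ _ (tri_edge01 _ _ _), k1])
        (by rw [comp_rg ω _ _ (tri_edge12 _ _ _), w23]), comp_rg ω _ _ (tri_edge02 _ _ _)]
  e_s := by
    rw [pr_zero, rg_comp' _ _ (edge_pt0 _ _)]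
    have : EF56.pt ⟨0⟩ 0 = 𝟙 (⟨0⟩ : NF) := by
      funext x; exact Subsingleton.elim (α := Fin 1) _ _
    rw [this, rg_id]
  e_t := by
    rw [lst_zero, rg_comp' _ _ (edge_pt1 _ _)]
    have : EF56.pt ⟨0⟩ 0 = 𝟙 (⟨0⟩ : NF) := by
      funext x; exact Subsingleton.elim (α := Fin 1) _ _
    rw [this, rg_id]
  comp_e α := by
    rw [cmp_eq hA _ _ _ (α.comp (rg A (tri (0 : Fin 2) 0 1))) ?_ ?_, comp_rg α _ _ (tri_edge02 _ _ _), rg_edge01,
      RingHom.comp_id]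
    · rw [comp_rg α _ _ (tri_edge01 _ _ _), pr_zero, comp_rg α _ _ (edge_self _)]
    · rw [comp_rg α _ _ (tri_edge12 _ _ _), rg_edge01, RingHom.comp_id]
  e_comp α := by
    rw [cmp_eq hA _ _ _ (α.comp (rg A (tri (0 : Fin 2) 1 1))) ?_ ?_, comp_rg α _ _ (tri_edge02 _ _ _), rg_edge01,
      RingHom.comp_id]
    · rw [comp_rg α _ _ (tri_edge01 _ _ _), rg_edge01, RingHom.comp_id]
    · rw [comp_rg α _ _ (tri_edge12 _ _ _), lst_zero, comp_rg α _ _ (edge_self _)]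
  i_s := by
    rw [pr_zero, lst_zero, rg_comp' _ _ (edge_pt0 _ _)]
  i_t := by
    rw [pr_zero, lst_zero, rg_comp' _ _ (edge_pt1 _ _)]
  comp_i α := by
    rw [cmp_eq hA _ _ _ (α.comp (rg A (tri (1 : Fin 2) 0 1))) ?_ ?_, comp_rg α _ _ (tri_edge02 _ _ _), lst_zero,
      comp_rg α _ _ (edge_self _)]
    · rw [comp_rg α _ _ (tri_edge01 _ _ _)]
    · rw [comp_rg α _ _ (tri_edge12 _ _ _), rg_edge01, RingHom.comp_id]
  i_comp α := by
    rw [cmp_eq hA _ _ _ (α.comp (rg A (tri (0 : Fin 2) 1 0))) ?_ ?_, comp_rg α _ _ (tri_edge02 _ _ _), pr_zero,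
      comp_rg α _ _ (edge_self _)]
    · rw [comp_rg α _ _ (tri_edge01 _ _ _), rg_edge01, RingHom.comp_id]
    · rw [comp_rg α _ _ (tri_edge12 _ _ _)]

theorem isGrpd : IsGrpd A (grpd hA) where
  s := rfl
  t := rfl
  comp χ h := cmp_eq hA _ _ h χ rfl rfl

end

/-- **Node R1** -/
theorem r1 : K412.R1.{u} := fun _ hA => ⟨grpd hA, isGrpd hA⟩

end Groth.Agent.ResProp.EF.K128.R1
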