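import Groth.Agent.ResProp.EF.K128.CoverIn

/-!
# Node `K412.Z2`
-/

set_option autoImplicit false
set_option linter.dupNamespace false
set_option linter.style.haveILetI false

universe u

open CategoryTheory CategoryTheory.Limits Opposite TensorProduct
open Groth.Agent.Grpsch.AffGrpd EF56 K784.BC K784.PM K741.RP

noncomputable section

namespace Groth.Agent.ResProp.EF.K128

open Nerve Conerve AffY K412 Z2

/-- the coaction on `D ⊗_C D` -/
theorem exists_rho1 {k : Type u} [CommRing k] {O : Type u} [CommRing O] [Algebra k O] {C D : Type u} [CommRing C]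
    [CommRing D] [Algebra k C] [Algebra k D] [Algebra C D] [IsScalarTower k C D] (ρ : D →+* D ⊗[k] O)
    (ρC : C → C ⊗[k] O) (h : ∀ c, ρ (algebraMap C D c) = (IsScalarTower.toAlgHom k C D).toLinearMap.rTensor O (ρC c))
    (σ τ : D →ₐ[k] D ⊗[C] D) (hσ : ∀ z, σ z = z ⊗ₜ 1) (hτ : ∀ z, τ z = 1 ⊗ₜ z) :
    ∃ ρ1 : D ⊗[C] D →+* (D ⊗[C] D) ⊗[k] O,
      (∀ z, ρ1 (σ z) = Algebra.TensorProduct.map σ (AlgHom.id k O) (ρ z)) ∧
      (∀ z, ρ1 (τ z) = Algebra.TensorProduct.map τ (AlgHom.id k O) (ρ z)) := by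
  have key : ∀ x : C ⊗[k] O, Algebra.TensorProduct.map σ (AlgHom.id k O)
      ((IsScalarTower.toAlgHom k C D).toLinearMap.rTensor O x) = Algebra.TensorProduct.map τ (AlgHom.id k O)
      ((IsScalarTower.toAlgHom k C D).toLinearMap.rTensor O x) := by
    intro x
    induction x using TensorProduct.induction_on with
    | zero => rw [map_zero, map_zero, map_zero]
    | add x y hx hy => rw [map_add, map_add, map_add, hx, hy]
    | tmul c o =>
      change σ (algebraMap C D c) ⊗ₜ[k] o = τ (algebraMap C D c) ⊗ₜ[k] o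
      rw [hσ, hτ, Algebra.algebraMap_eq_smul_one, TensorProduct.smul_tmul]
  have w : cc C D ≫ CommRingCat.ofHom ((Algebra.TensorProduct.map σ (AlgHom.id k O)).toRingHom.comp ρ) =
      cc C D ≫ CommRingCat.ofHom ((Algebra.TensorProduct.map τ (AlgHom.id k O)).toRingHom.comp ρ) := by
    refine CommRingCat.hom_ext (RingHom.ext fun c => ?_)
    change Algebra.TensorProduct.map σ (AlgHom.id k O) (ρ (algebraMap C D c)) =
      Algebra.TensorProduct.map τ (AlgHom.id k O) (ρ (algebraMap C D c))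
    rw [h]
    exact key _
  refine ⟨((isPushout_cc C D).desc _ _ w).hom, fun z => ?_, fun z => ?_⟩
  · rw [hσ]
    exact congr($(congrArg CommRingCat.Hom.hom ((isPushout_cc C D).inl_desc _ _ w)) z)
  · rw [hτ]
    exact congr($(congrArg CommRingCat.Hom.hom ((isPushout_cc C D).inr_desc _ _ w)) z)

/-- **`RCover → CoverIn`** -/
theorem nonempty_coverIn {k : Type u} [CommRing k] {A : NFᵒᵖ ⥤ CommRingCat.{u}} [Arch.GRF k A]
    {x : PrimeSpectrum (A.obj (op ⟨0⟩))} {H : Grp.Gp k} {G : RGrpd (A.obj (op ⟨0⟩)) (A.obj (op ⟨1⟩))} (hG : IsGrpd A G)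
    (R : RCover k G x H) : Nonempty (CoverIn k A x H) := by
  let σ : R.D →ₐ[k] R.D ⊗[R.C] R.D := (Algebra.TensorProduct.includeLeft : R.D →ₐ[R.C] R.D ⊗[R.C] R.D).restrictScalars k
  let τ : R.D →ₐ[k] R.D ⊗[R.C] R.D := (Algebra.TensorProduct.includeRight : R.D →ₐ[R.C] R.D ⊗[R.C] R.D).restrictScalars k
  obtain ⟨ρ1, h1, h2⟩ := exists_rho1 (k := k) (O := H.O) R.ρ.ρ.toRingHom R.ρC R.ρC_eq σ τ (fun _ => rfl) (fun _ => rfl)
  refine ⟨{ D := R.D
            ft := R.ft
            R1 := R.D ⊗[R.C] R.D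
            X := actD G hG R.ph R.ph_s R.ph_t R.po R.coc
            X_p := fun _ => rfl
            σ := σ
            τ := τ
            hσ := fun _ => rfl
            hτ := fun _ => rfl
            C := R.C
            ff := R.ff
            hC := isPushout_cc R.C R.D
            ρ := R.ρ
            ρ_A := R.ρ_A
            ρ1 := ρ1
            ρ1_g := ?_
            ρ1_σ := h1
            ρ1_τ := h2
            cR := R.cR
            cR_eq := R.cR_eq
            fin := R.fin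
            pt := R.pt }⟩
  intro b
  have e := R.equi (T := (R.D ⊗[R.C] R.D) ⊗[k] H.O)
    (Algebra.TensorProduct.includeLeft : R.D ⊗[R.C] R.D →ₐ[k] (R.D ⊗[R.C] R.D) ⊗[k] H.O).toRingHom ρ1
    ((Algebra.TensorProduct.includeLeft : R.D ⊗[R.C] R.D →ₐ[k] (R.D ⊗[R.C] R.D) ⊗[k] H.O).comp σ)
    ((Algebra.TensorProduct.includeLeft : R.D ⊗[R.C] R.D →ₐ[k] (R.D ⊗[R.C] R.D) ⊗[k] H.O).comp τ)
    (Algebra.TensorProduct.includeRight : H.O →ₐ[k] (R.D ⊗[R.C] R.D) ⊗[k] H.O)
    (fun _ => rfl) (fun _ => rfl) (fun z => ?_) (fun z => ?_)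
  · exact congr($e b)
  · refine (h1 z).trans ?_
    change Algebra.TensorProduct.map σ (AlgHom.id k H.O) (R.ρ.ρ z) = _
    generalize R.ρ.ρ z = y
    induction y using TensorProduct.induction_on with
    | zero => rw [map_zero, map_zero]
    | add x y hx hy => rw [map_add, map_add, hx, hy]
    | tmul a o =>
      rw [Algebra.TensorProduct.map_tmul, Algebra.TensorProduct.productMap_apply_tmul]
      change σ a ⊗ₜ[k] o = (σ a ⊗ₜ[k] (1 : H.O)) * ((1 : R.D ⊗[R.C] R.D) ⊗ₜ[k] o)
      rw [Algebra.TensorProduct.tmul_mul_tmul, mul_one, one_mul]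
  · refine (h2 z).trans ?_
    change Algebra.TensorProduct.map τ (AlgHom.id k H.O) (R.ρ.ρ z) = _
    generalize R.ρ.ρ z = y
    induction y using TensorProduct.induction_on with
    | zero => rw [map_zero, map_zero]
    | add x y hx hy => rw [map_add, map_add, hx, hy]
    | tmul a o =>
      rw [Algebra.TensorProduct.map_tmul, Algebra.TensorProduct.productMap_apply_tmul]
      change τ a ⊗ₜ[k] o = (τ a ⊗ₜ[k] (1 : H.O)) * ((1 : R.D ⊗[R.C] R.D) ⊗ₜ[k] o)
      rw [Algebra.TensorProduct.tmul_mul_tmul, mul_one, one_mul]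

/-- **Node Z2** -/
theorem z2 : K412.Z2.{u} := by
  intro p k _ _ A _ x H kill G hG ⟨R⟩
  obtain ⟨I⟩ := nonempty_coverIn hG R
  exact I.datum kill

end Groth.Agent.ResProp.EF.K128
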