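import Groth.Agent.ResProp.EF.K128.AffY
import Groth.Agent.ResProp.EF.K412.Out

/-!
# Node Z2, first half: the action of the groupoid from `RCover`
-/

set_option autoImplicit false
set_option linter.dupNamespace false

universe u

open CategoryTheory CategoryTheory.Limits Opposite TensorProduct
open Groth.Agent.Grpsch.AffGrpd EF56 K784.BC K784.PM K741.RP

noncomputable section

namespace Groth.Agent.ResProp.EF.K128.Z2

open Nerve Conerve AffY K412

section

variable {A : NFᵒᵖ ⥤ CommRingCat.{u}} (G : RGrpd (A.obj (op ⟨0⟩)) (A.obj (op ⟨1⟩))) (hG : IsGrpd A G)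
  {C D : Type u} [CommRing C] [CommRing D] [Algebra (A.obj (op ⟨0⟩)) D] [Algebra C D]
  (ph : A.obj (op ⟨1⟩) →+* D ⊗[C] D)
  (ph_s : ∀ a, ph (G.s a) = algebraMap (A.obj (op ⟨0⟩)) D a ⊗ₜ 1)
  (ph_t : ∀ a, ph (G.t a) = 1 ⊗ₜ algebraMap (A.obj (op ⟨0⟩)) D a)
  (po : ∀ {T : Type u} [CommRing T] (d : D →+* T) (γ : A.obj (op ⟨1⟩) →+* T),
    γ.comp G.s = d.comp (algebraMap (A.obj (op ⟨0⟩)) D) →
    ∃! r : D ⊗[C] D →+* T, (∀ z, r (z ⊗ₜ 1) = d z) ∧ r.comp ph = γ)
  (coc : ∀ {T : Type u} [CommRing T] (r01 r12 r02 : D ⊗[C] D →+* T), (∀ z, r01 (1 ⊗ₜ z) = r12 (z ⊗ₜ 1)) →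
    (∀ z, r02 (z ⊗ₜ 1) = r01 (z ⊗ₜ 1)) → (∀ z, r02 (1 ⊗ₜ z) = r12 (1 ⊗ₜ z)) →
    ∀ h : (r12.comp ph).comp G.s = (r01.comp ph).comp G.t, G.comp (r12.comp ph) (r01.comp ph) h = r02.comp ph)

variable (C D) in
/-- the structure map `C ⟶ D` -/
abbrev cc : CommRingCat.of C ⟶ CommRingCat.of D := CommRingCat.ofHom (algebraMap C D)

variable (C D) in
/-- the first inclusion -/
abbrev inl : CommRingCat.of D ⟶ CommRingCat.of (D ⊗[C] D) :=
  CommRingCat.ofHom (S := D ⊗[C] D) Algebra.TensorProduct.includeLeftRingHom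

variable (C D) in
/-- the second inclusion -/
abbrev inr : CommRingCat.of D ⟶ CommRingCat.of (D ⊗[C] D) :=
  CommRingCat.ofHom (S := D ⊗[C] D) (Algebra.TensorProduct.includeRight : D →ₐ[C] D ⊗[C] D).toRingHom

variable (C D) in
theorem isPushout_cc : IsPushout (cc C D) (cc C D) (inl C D) (inr C D) := CommRingCat.isPushout_tensorProduct C D D

include hG ph_s ph_t po coc

/-- **the action of the groupoid `A` on `D`** -/
def actD : ActD A (CommRingCat.of D) (CommRingCat.of (D ⊗[C] D)) where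
  p := CommRingCat.ofHom (algebraMap (A.obj (op ⟨0⟩)) D)
  σ := inl C D
  τ := inr C D
  g := CommRingCat.ofHom ph
  po := by
    have w : A.map (pr ⟨0⟩).op ≫ CommRingCat.ofHom ph = CommRingCat.ofHom (algebraMap (A.obj (op ⟨0⟩)) D) ≫ inl C D := by
      refine CommRingCat.hom_ext (RingHom.ext fun a => ?_)
      have := ph_s a
      rw [hG.s] at this
      exact this
    have key : ∀ (s : PushoutCocone (A.map (pr ⟨0⟩).op) (CommRingCat.ofHom (algebraMap (A.obj (op ⟨0⟩)) D))),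
        s.inl.hom.comp G.s = s.inr.hom.comp (algebraMap (A.obj (op ⟨0⟩)) D) := fun s => by
      rw [hG.s]
      exact congrArg CommRingCat.Hom.hom s.condition
    refine ⟨⟨w⟩, ⟨PushoutCocone.IsColimit.mk _
      (fun s => CommRingCat.ofHom (po s.inr.hom s.inl.hom (key s)).choose) (fun s => ?_) (fun s => ?_)
      (fun s m h1 h2 => ?_)⟩⟩
    · exact CommRingCat.hom_ext (po s.inr.hom s.inl.hom (key s)).choose_spec.1.2
    · exact CommRingCat.hom_ext (RingHom.ext (po s.inr.hom s.inl.hom (key s)).choose_spec.1.1)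
    · refine CommRingCat.hom_ext ((po s.inr.hom s.inl.hom (key s)).choose_spec.2 m.hom ⟨fun z => ?_, ?_⟩)
      · exact congr($(congrArg CommRingCat.Hom.hom h2) z)
      · exact congrArg CommRingCat.Hom.hom h1
  ht := by
    refine CommRingCat.hom_ext (RingHom.ext fun a => ?_)
    have := ph_t a
    rw [hG.t] at this
    exact this
  assoc {T} r r' r'' m h1 h2 h01 h12 h02 := by
    -- the third side
    have w : cc C D ≫ inl C D ≫ r = cc C D ≫ inr C D ≫ r' := by
      rw [← Category.assoc, (isPushout_cc C D).w, Category.assoc, ← h1, ← Category.assoc, (isPushout_cc C D).w,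
        Category.assoc]
    obtain ⟨q, hq1, hq2⟩ : ∃ q : CommRingCat.of (D ⊗[C] D) ⟶ T, inl C D ≫ q = inl C D ≫ r ∧
        inr C D ≫ q = inr C D ≫ r' :=
      ⟨(isPushout_cc C D).desc _ _ w, (isPushout_cc C D).inl_desc _ _ _, (isPushout_cc C D).inr_desc _ _ _⟩
    have e01 : m.hom.comp (rg A (show (⟨2⟩ : NF) ⟶ ⟨1⟩ from (![0, 1] : Fin 2 → Fin 3))) = r.hom.comp ph :=
      congrArg CommRingCat.Hom.hom h01
    have e12 : m.hom.comp (rg A (show (⟨2⟩ : NF) ⟶ ⟨1⟩ from (![1, 2] : Fin 2 → Fin 3))) = r'.hom.comp ph :=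
      congrArg CommRingCat.Hom.hom h12
    have e02 : m.hom.comp (rg A (show (⟨2⟩ : NF) ⟶ ⟨1⟩ from (![0, 2] : Fin 2 → Fin 3))) = r''.hom.comp ph :=
      congrArg CommRingCat.Hom.hom h02
    have hc : ∀ z : D, r'.hom (z ⊗ₜ 1) = r.hom (1 ⊗ₜ z) := fun z => congr($(congrArg CommRingCat.Hom.hom h1) z)
    have hst : (r'.hom.comp ph).comp G.s = (r.hom.comp ph).comp G.t := by
      refine RingHom.ext fun a => ?_
      change r'.hom (ph (G.s a)) = r.hom (ph (G.t a))
      rw [ph_s, ph_t, hc]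
    have k1 := coc r.hom r'.hom q.hom (fun z => (hc z).symm) (fun z => congr($(congrArg CommRingCat.Hom.hom hq1) z))
      (fun z => congr($(congrArg CommRingCat.Hom.hom hq2) z)) hst
    have k2 := hG.comp m.hom (by rw [e01, e12]; exact hst)
    have k3 : q.hom.comp ph = r''.hom.comp ph := by
      rw [← k1, ← e02, ← k2]
      congr 1
      · exact e12.symm
      · exact e01.symm
    -- uniqueness
    have hh : (r''.hom.comp ph).comp G.s = (r''.hom.comp Algebra.TensorProduct.includeLeftRingHom).comp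
        (algebraMap (A.obj (op ⟨0⟩)) D) := by
      refine RingHom.ext fun a => ?_
      change r''.hom (ph (G.s a)) = r''.hom (algebraMap (A.obj (op ⟨0⟩)) D a ⊗ₜ 1)
      rw [ph_s]
    have hq : q = r'' := by
      refine CommRingCat.hom_ext ((po _ _ hh).unique ⟨fun z => ?_, k3⟩ ⟨fun z => rfl, rfl⟩)
      have a1 : q.hom (z ⊗ₜ 1) = r.hom (z ⊗ₜ 1) := congr($(congrArg CommRingCat.Hom.hom hq1) z)
      have a2 : r''.hom (z ⊗ₜ 1) = r.hom (z ⊗ₜ 1) := congr($(congrArg CommRingCat.Hom.hom h2) z)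
      exact a1.trans a2.symm
    rw [← hq, hq2]

end

end Groth.Agent.ResProp.EF.K128.Z2
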